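import Cfsg.Agent.MK.Basic
import Cfsg.Agent.H710.PPrimeDeg
import Cfsg.Agent.OddOrderCharacters.PF9.GaloisClifford
import Cfsg.Agent.KFacts.AutLarge
import Cfsg.Agent.UniqSheet.Large

/-!
# MK, small rows: groups with a large extraspecial subgroup (helper54)

* `cnt_two` : `N ↠ N₁` with a sign character `μ` which is not trivial on the kernel `E`, `E ∩ ker μ ≤ S'`;
* `Uq` : at most one nonzero vector of `E/⟨z⟩` is fixed by `S`;
* `cnt_stab`, `cnt_large` : `k0 N_G(S) = 2 k0 N_L(T)`; `cnt_ih` : `= 2 k0 L` under the induction hypothesis.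
-/

set_option autoImplicit false

namespace Cfsg.Agent.MK.S8

open Cfsg Subgroup Cfsg.Agent.Co2Type.Quad Cfsg.Agent.KFacts.AutLarge Cfsg.Agent.Characters.Core

theorem deg_mul {N : Type} [Group N] (μ : N →* ℂˣ) (χ : N → ℂ) :
    charDegree (fun x => (μ x : ℂ) * χ x) = charDegree χ := by
  unfold charDegree
  simp

theorem oi_mul {N : Type} [Group N] [Finite N] (μ : N →* ℂˣ) {χ : N → ℂ} (h : OI N χ) :
    OI N (fun x => (μ x : ℂ) * χ x) :=
  ⟨ODD.Red.isIrr_lin_mul μ h.1, by rw [deg_mul]; exact h.2⟩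

/-- **the abstract count** -/
theorem cnt_two {N M : Type} [Group N] [Finite N] [Group M] (ρ : N →* M) (hs : Function.Surjective ρ)
    (μ : N →* ℂˣ) (hμ : ∀ g, μ g = 1 ∨ μ g = -1) {e : N} (he : ρ e = 1) (hμe : μ e = -1) (S : Subgroup N)
    (hS : IsPGroup 2 S) (hD : ρ.ker ⊓ μ.ker ≤ (commutator S).map S.subtype) (α : N → N) (β : M → M)
    (hβ : ∀ x, ρ (α x) = β (ρ x)) (hα : ∀ x, μ (α x) = μ x) :
    Nat.card {χ : N → ℂ // OI N χ ∧ ∀ x, χ (α x) = χ x} =
      2 * Nat.card {η : M → ℂ // OI M η ∧ ∀ y, η (β y) = η y} := by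
  have : Fact (Nat.Prime 2) := ⟨Nat.prime_two⟩
  have hμ2 : ∀ g, (μ g : ℂ) * μ g = 1 := fun g => by rcases hμ g with h | h <;> rw [h] <;> simp
  let ν : Bool → (N →* ℂˣ) := fun b => if b then μ else 1
  have hν : ∀ b x, ν b (α x) = ν b x := fun b x => by cases b <;> simp [ν, hα]
  let F : Bool × {η : M → ℂ // OI M η ∧ ∀ y, η (β y) = η y} → {χ : N → ℂ // OI N χ ∧ ∀ x, χ (α x) = χ x} :=
    fun p => ⟨fun x => (ν p.1 x : ℂ) * (p.2.1 ∘ ρ) x, oi_mul _ (p.2.2.1.comp ρ hs), fun x => by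
      simp only [Function.comp, hβ, hν, p.2.2.2]⟩
  have down : ∀ (b : Bool) (χ : N → ℂ) (h : OI N χ ∧ ∀ x, χ (α x) = χ x),
      (∀ x ∈ ρ.ker, (ν b x : ℂ) * χ x = χ 1) → ∃ p, F p = ⟨χ, h⟩ := by
    intro b χ h hk
    have h1 := oi_mul (ν b) h.1
    obtain ⟨η, hη, e1⟩ := ODD.Red.exists_quot ρ hs h1.1 fun x hx => by rw [hk x hx]; simp
    have e2 : η ∘ ρ = fun x => (ν b x : ℂ) * χ x := funext e1
    refine ⟨(b, ⟨η, ⟨hη, by rw [← deg_comp ρ η, e2]; exact h1.2⟩, fun y => ?_⟩), Subtype.ext (funext fun x => ?_)⟩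
    · obtain ⟨x, rfl⟩ := hs y
      rw [← hβ, e1, e1, hν, h.2]
    · show (ν b x : ℂ) * η (ρ x) = χ x
      rw [e1, ← mul_assoc]
      cases b
      · simp [ν]
      · rw [show ν true = μ from rfl, hμ2, one_mul]
  rw [← Nat.card_eq_of_bijective F ⟨?_, ?_⟩, Nat.card_prod, Nat.card_eq_fintype_card, Fintype.card_bool]
  · rintro ⟨b, η, hη⟩ ⟨b', η', hη'⟩ h
    have h1 : ∀ x, (ν b x : ℂ) * η (ρ x) = (ν b' x : ℂ) * η' (ρ x) := congrFun (congrArg Subtype.val h)
    have h2 := h1 1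
    have h3 := h1 e
    rw [map_one, map_one, map_one, Units.val_one, one_mul, one_mul] at h2
    rw [he, ← h2] at h3
    have h4 := mul_right_cancel₀ hη.1.one_ne h3
    have h5 : b = b' := by
      cases b <;> cases b' <;> simp only [ν, if_true, hμe, Bool.false_eq_true, if_false, MonoidHom.one_apply,
        Units.val_neg, Units.val_one] at h4 <;> first | rfl | norm_num at h4
    subst h5
    refine Prod.ext rfl (Subtype.ext (funext fun y => ?_))
    obtain ⟨x, rfl⟩ := hs y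
    exact mul_left_cancel₀ (Units.ne_zero _) (h1 x)
  · rintro ⟨χ, h⟩
    have h1 := H710.PPrimeDeg.apply_eq_of_not_dvd S hS (ρ.ker ⊓ μ.ker) hD h.1.1 h.1.2.not_two_dvd_nat
    obtain ⟨c, hc⟩ := OddOrderCharacters.PF9.GaloisClifford.exists_scalar h.1.1 e fun t => h1 _
      ⟨by simp [he], by simp [hμe]⟩
    have h2 : c * c = 1 := by
      have h3 := h1 (e * (e * 1)) ⟨by simp [he], by simp [hμe]⟩
      rw [hc, hc, ← mul_assoc] at h3
      exact mul_right_cancel₀ h.1.one_ne (h3.trans (one_mul _).symm)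
    have h3 : ∀ x ∈ ρ.ker, μ x = -1 → χ x = c * χ 1 := fun x hx h4 => by
      rw [← h1 (e⁻¹ * x) ⟨ρ.ker.mul_mem (ρ.ker.inv_mem he) hx, by simp [hμe, h4]⟩, ← hc, mul_inv_cancel_left]
    rcases mul_self_eq_one_iff.1 h2 with rfl | rfl
    · refine down false χ h fun x hx => ?_
      rcases hμ x with h4 | h4
      · simp [ν, h1 x ⟨hx, h4⟩]
      · simp [ν, h3 x hx h4]
    · refine down true χ h fun x hx => ?_
      rcases hμ x with h4 | h4
      · simp [ν, h1 x ⟨hx, h4⟩, h4]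
      · simp [ν, h3 x hx h4, h4]

theorem cnt_two' {N M : Type} [Group N] [Finite N] [Group M] (ρ : N →* M) (hs : Function.Surjective ρ)
    (μ : N →* ℂˣ) (hμ : ∀ g, μ g = 1 ∨ μ g = -1) {e : N} (he : ρ e = 1) (hμe : μ e = -1) (S : Subgroup N)
    (hS : IsPGroup 2 S) (hD : ρ.ker ⊓ μ.ker ≤ (commutator S).map S.subtype) :
    Nat.card {χ : N → ℂ // OI N χ} = 2 * Nat.card {η : M → ℂ // OI M η} := by
  simpa using cnt_two ρ hs μ hμ he hμe S hS hD id id (fun _ => rfl) fun _ => rfl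

section large

variable {G : Type} [Group G] {E S : Subgroup G} {z : G}

/-- `x` is fixed by `S` modulo `z` -/
def Fx (S : Subgroup G) (z x : G) : Prop := ∀ s ∈ S, Eqz z (s * x * s⁻¹) x

/-- at most one nonzero vector of `E/⟨z⟩` is fixed by `S` -/
def Uq (E S : Subgroup G) (z : G) : Prop :=
  ∀ x ∈ E, ∀ y ∈ E, Fx S z x → Fx S z y → (x = 1 ∨ x = z) ∨ (y = 1 ∨ y = z) ∨ Eqz z x y

theorem Uq.mono {S' : Subgroup G} (h : Uq E S z) (hS : S ≤ S') : Uq E S' z :=
  fun x hx y hy h1 h2 => h x hx y hy (fun s hs => h1 s (hS hs)) fun s hs => h2 s (hS hs)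

theorem fx_iff (h : Large E z) (hS : S ≤ centralizer ({z} : Set G)) (x : E) :
    Fx S z x ↔ ∀ s : centralizer ({z} : Set G), (s : G) ∈ S → h.act s (h.pr x) = h.pr x :=
  ⟨fun h1 s hs => by rw [h.act_pr, h.pr_eq_pr]; exact h1 s hs, fun h1 s hs => by
    have h2 := h1 ⟨s, hS hs⟩ hs
    rw [h.act_pr, h.pr_eq_pr] at h2
    exact h2⟩

/-- the form with vectors -/
theorem uq_of_act (h : Large E z) (hS : S ≤ centralizer ({z} : Set G))
    (hu : ∀ u w : h.V, (∀ s : centralizer ({z} : Set G), (s : G) ∈ S → h.act s u = u) →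
      (∀ s : centralizer ({z} : Set G), (s : G) ∈ S → h.act s w = w) → u = 0 ∨ w = 0 ∨ u = w) : Uq E S z := by
  intro x hx y hy h1 h2
  rcases hu _ _ ((fx_iff h hS ⟨x, hx⟩).1 h1) ((fx_iff h hS ⟨y, hy⟩).1 h2) with e | e | e
  · exact .inl (h.pr_eq_zero.1 e)
  · exact .inr (.inl (h.pr_eq_zero.1 e))
  · exact .inr (.inr (h.pr_eq_pr.1 e))

/-- duality: an element outside of `S'` is detected by a fixed vector -/
theorem exists_fx [Finite G] (h : Large E z) (hS : S ≤ centralizer ({z} : Set G)) {D : Subgroup G}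
    (hz : z ∈ D) (hD : ∀ s ∈ S, ∀ x ∈ E, s * x * s⁻¹ * x⁻¹ ∈ D) {d : G} (hd : d ∈ E) (hn : d ∉ D) :
    ∃ u ∈ E, Fx S z u ∧ u * d ≠ d * u := by
  let W : Submodule (ZMod 2) h.V := AddSubgroup.toZModSubmodule 2
    { carrier := {v | ∃ x : E, (x : G) ∈ D ∧ h.pr x = v}
      zero_mem' := ⟨1, one_mem _, rfl⟩
      add_mem' := by
        rintro _ _ ⟨x, hx, rfl⟩ ⟨y, hy, rfl⟩
        exact ⟨x * y, mul_mem hx hy, rfl⟩
      neg_mem' := by
        rintro _ ⟨x, hx, rfl⟩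
        exact ⟨x⁻¹, inv_mem hx, rfl⟩ }
  have h1 : h.pr ⟨d, hd⟩ ∉ W := by
    rintro ⟨x, hx, e⟩
    rcases h.pr_eq_pr.1 e with e | e
    · exact hn (by rwa [e] at hx)
    · exact hn ((Subgroup.mul_mem_cancel_right _ hz).1 (by rwa [e] at hx))
  obtain ⟨f, hf, hW⟩ := W.exists_dual_map_eq_bot_of_notMem h1 inferInstance
  obtain ⟨v, hv⟩ := h.exists_b_eq f
  obtain ⟨u, rfl⟩ := h.pr_surjective v
  refine ⟨u, u.2, (fx_iff h hS u).2 fun s hs => ?_, fun e => hf ?_⟩
  · rw [← sub_eq_zero]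
    refine h.b_nondeg fun w => ?_
    obtain ⟨w', rfl⟩ := (h.act s).surjective w
    obtain ⟨x, rfl⟩ := h.pr_surjective w'
    have h2 : f (h.act s (h.pr x) - h.pr x) = 0 := by
      rw [← Submodule.mem_bot (R := ZMod 2), ← hW]
      refine ⟨_, ⟨h.conjQ s x * x⁻¹, hD s hs x x.2, ?_⟩, rfl⟩
      rw [h.pr_mul, h.pr_inv, h.act_pr, sub_eq_add_neg]
    rw [map_sub, LinearMap.sub_apply, h.b_act, hv, hv, ← neg_sub, ← map_sub, h2, neg_zero]
  · rw [← hv, h.b_pr]
    exact e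

open scoped commutatorElement in
theorem comm_mem {s x : G} (hs : s ∈ S) (hx : x ∈ S) : s * x * s⁻¹ * x⁻¹ ∈ (commutator S).map S.subtype :=
  ⟨⁅(⟨s, hs⟩ : S), ⟨x, hx⟩⁆, commutator_mem_commutator (mem_top _) (mem_top _), rfl⟩

/-- there is a fixed vector -/
theorem exists_fix [Finite G] (h : Large E z) (hne : ∃ x ∈ E, x ≠ 1 ∧ x ≠ z) (hS : S ≤ centralizer ({z} : Set G))
    (h2 : IsPGroup 2 S) : ∃ v ∈ E, (v ≠ 1 ∧ v ≠ z) ∧ Fx S z v := by
  have : Fact (Nat.Prime 2) := ⟨Nat.prime_two⟩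
  let := MulAction.compHom h.V (h.act.comp (inclusion hS))
  obtain ⟨x, hx, h3⟩ := hne
  have h4 : 2 ∣ Nat.card h.V := by
    have h5 : addOrderOf (h.pr ⟨x, hx⟩) = 2 := addOrderOf_eq_prime (by rw [two_nsmul, h.add_self])
      fun e => (h.pr_eq_zero.1 e).elim h3.1 h3.2
    exact h5 ▸ addOrderOf_dvd_natCard _
  obtain ⟨b, hb, hb0⟩ := h2.exists_fixed_point_of_prime_dvd_card_of_fixed_point h.V h4 (a := 0)
    fun s => map_zero (h.act (inclusion hS s))
  obtain ⟨v, rfl⟩ := h.pr_surjective b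
  exact ⟨v, v.2, ⟨fun e => hb0 (h.pr_eq_zero.2 (.inl e)).symm, fun e => hb0 (h.pr_eq_zero.2 (.inr e)).symm⟩,
    (fx_iff h hS v).2 fun s hs => hb ⟨s, hs⟩⟩

open Classical in
/-- the sign character of a subgroup which fixes `v` modulo `z` -/
noncomputable def sgn (h : Large E z) {H : Subgroup G} (hH : H ≤ centralizer ({z} : Set G)) {v : G} (hv : Fx H z v) :
    H →* ℂˣ :=
  MonoidHom.mk' (fun g => if (g : G) * v * (g : G)⁻¹ = v then 1 else -1) fun a b => by
    have hne : v * z ≠ v := fun e => h.z_ne (mul_eq_left.1 e)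
    have haz : (a : G) * z * (a : G)⁻¹ = z := by
      rw [mem_centralizer_singleton_iff.1 (hH a.2), mul_inv_cancel_right]
    have e1 : ((a * b : H) : G) * v * ((a * b : H) : G)⁻¹ = a * (b * v * (b : G)⁻¹) * (a : G)⁻¹ := by
      rw [coe_mul]
      group
    have e2 : (a : G) * (v * z) * (a : G)⁻¹ = a * v * (a : G)⁻¹ * z := by
      nth_rw 2 [← haz]
      group
    rw [e1]
    rcases hv a a.2 with ha | ha <;> rcases hv b b.2 with hb | hb <;> rw [hb]
    · rw [ha, if_pos rfl, one_mul]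
    · rw [e2, ha, if_pos rfl, one_mul]
    · rw [ha, if_pos rfl, mul_one]
    · rw [e2, ha, mul_assoc, h.z_sq, mul_one, if_pos rfl, if_neg hne]
      simp

theorem sgn_eq_one (h : Large E z) {H : Subgroup G} (hH : H ≤ centralizer ({z} : Set G)) {v : G} (hv : Fx H z v)
    (g : H) : sgn h hH hv g = 1 ↔ (g : G) * v * (g : G)⁻¹ = v := by
  unfold sgn
  rw [MonoidHom.mk'_apply]
  split_ifs with c
  · exact iff_of_true rfl c
  · exact iff_of_false (fun e => by have := congrArg Units.val e; norm_num at this) c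

theorem sgn_or (h : Large E z) {H : Subgroup G} (hH : H ≤ centralizer ({z} : Set G)) {v : G} (hv : Fx H z v)
    (g : H) : sgn h hH hv g = 1 ∨ sgn h hH hv g = -1 := by
  unfold sgn
  rw [MonoidHom.mk'_apply]
  split_ifs
  · exact .inl rfl
  · exact .inr rfl

/-- **the count for a subgroup `S ≤ H ≤ C(z)` which fixes the vector** -/
theorem cnt_stab [Finite G] (h : Large E z) (hE : E ≤ S) (h2 : IsPGroup 2 S) (hu : Uq E S z) {H : Subgroup G}
    (hSH : S ≤ H) (hH : H ≤ centralizer ({z} : Set G)) {v : G} (hvE : v ∈ E) (hv1 : v ≠ 1 ∧ v ≠ z) (hv : Fx H z v)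
    {M : Type} [Group M] (ρ : H →* M) (hs : Function.Surjective ρ) (hk : ∀ x, ρ x = 1 ↔ (x : G) ∈ E) :
    Nat.card {χ : H → ℂ // OI H χ} = 2 * Nat.card {η : M → ℂ // OI M η} := by
  obtain ⟨y, hy, e⟩ := LargeExtra.Base.exists_not_comm h hvE hv1.1 hv1.2
  refine cnt_two' ρ hs (sgn h hH hv) (sgn_or h hH hv) (e := ⟨y, hSH (hE hy)⟩) ((hk _).2 hy)
    ((sgn_or h hH hv _).resolve_left fun c => ?_) (S.subgroupOf H) h2.comap_subtype fun d hd => ?_
  · have h3 : y * v = v * y := mul_inv_eq_iff_eq_mul.1 ((sgn_eq_one h hH hv _).1 c)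
    exact h.z_ne (mul_eq_left.1 (e.symm.trans h3))
  · by_contra hn
    have hdE : (d : G) ∈ E := (hk d).1 hd.1
    have hdv : (d : G) * v = v * d := mul_inv_eq_iff_eq_mul.1 ((sgn_eq_one h hH hv _).1 hd.2)
    have h3 : ∀ s ∈ S, ∀ x ∈ S, s * x * s⁻¹ * x⁻¹ ∈
        ((commutator (S.subgroupOf H)).map (S.subgroupOf H).subtype).map H.subtype := fun s hs x hx =>
      ⟨_, comm_mem (S := S.subgroupOf H) (s := ⟨s, hSH hs⟩) (x := ⟨x, hSH hx⟩) hs hx, rfl⟩
    obtain ⟨u, huE, hu1, hu2⟩ := exists_fx h (hSH.trans hH) (d := d)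
      (D := ((commutator (S.subgroupOf H)).map (S.subgroupOf H).subtype).map H.subtype)
      (by
        have h4 := h3 y (hE hy) v (hE hvE)
        rwa [e, h.comm_z _ (mul_mem hvE hy), show z * (v * y) * y⁻¹ * v⁻¹ = z by group] at h4)
      (fun s hs x hx => h3 s hs x (hE hx)) hdE fun ⟨x, hx, e⟩ => hn ((Subtype.ext e : x = d) ▸ hx)
    have hdz := h.comm_z d hdE
    rcases hu u huE v hvE hu1 (fun s hs => hv s (hSH hs)) with (c | c) | c | c | c
    · exact hu2 (by rw [c, one_mul, mul_one])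
    · exact hu2 (by rw [c, hdz])
    · exact c.elim hv1.1 hv1.2
    · exact hu2 (by rw [c, hdv])
    · exact hu2 (by rw [c, mul_assoc, ← hdz, ← mul_assoc, ← hdv, mul_assoc])

theorem norm_le (h : Large E z) (hE : E ≤ S) (hS : S ≤ centralizer ({z} : Set G)) :
    normalizer (S : Set G) ≤ centralizer ({z} : Set G) :=
  UniqSheet.normalizer_le_centralizer h.z_ne (hE h.z_mem) (fun _ hx => mem_centralizer_singleton_iff.1 (hS hx))
    fun t _ ht => h.cent t (h.self t (ht z (hE h.z_mem)).symm fun x hx => (ht x (hE hx)).symm)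
      fun x hx => (ht x (hE hx)).symm

/-- **`k0 N_G(S) = 2 k0 N_L(T)`** -/
theorem cnt_large [Finite G] (h : Large E z) (hne : ∃ x ∈ E, x ≠ 1 ∧ x ≠ z) (hE : E ≤ S)
    (hS : S ≤ centralizer ({z} : Set G)) (h2 : IsPGroup 2 S) (hu : Uq E S z) {L : Type} [Group L]
    (π : centralizer ({z} : Set G) →* L) (hs : Function.Surjective π) (hk : ∀ x, π x = 1 ↔ (x : G) ∈ E) :
    Nat.card {χ : normalizer (S : Set G) → ℂ // OI _ χ} =
      2 * Nat.card {η : normalizer (((S.subgroupOf _).map π : Subgroup L) : Set L) → ℂ // OI _ η} := by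
  have hN := norm_le h hE hS
  obtain ⟨v, hvE, hv1, hv⟩ := exists_fix h hne hS h2
  have hvN : Fx (normalizer (S : Set G)) z v := by
    intro g hg
    have hgz : g * z = z * g := mem_centralizer_singleton_iff.1 (hN hg)
    have h3 : ∀ c : G, (c = 1 ∨ c = z) → g * v * g⁻¹ ≠ c := by
      rintro c hc e
      have h4 : v = g⁻¹ * c * g := by rw [← e]; group
      rcases hc with rfl | rfl
      · exact hv1.1 (by rw [h4]; group)
      · exact hv1.2 (by rw [h4, mul_assoc, ← hgz, inv_mul_cancel_left])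
    refine ((hu _ (h.conj_mem g hgz v hvE) v hvE (fun s hs => ?_) hv).resolve_left
      fun c => h3 _ c rfl).resolve_left fun c => c.elim hv1.1 hv1.2
    have h4 := (hv _ ((mem_normalizer_iff.1 (inv_mem hg) s).1 hs)).conj hgz
    rwa [show g * (g⁻¹ * s * g⁻¹⁻¹ * v * (g⁻¹ * s * g⁻¹⁻¹)⁻¹) * g⁻¹ = s * (g * v * g⁻¹) * s⁻¹ by group] at h4
  have hT : ∀ x : centralizer ({z} : Set G), π x ∈ (S.subgroupOf _).map π ↔ (x : G) ∈ S := fun x =>
    ⟨fun ⟨y, hy, e⟩ => (Subgroup.mul_mem_cancel_left _ (inv_mem hy)).1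
      (hE ((hk (y⁻¹ * x)).1 (by rw [map_mul, map_inv, e, inv_mul_cancel]))), fun hx => ⟨x, hx, rfl⟩⟩
  have hM : ∀ x : centralizer ({z} : Set G),
      π x ∈ normalizer (((S.subgroupOf _).map π : Subgroup L) : Set L) ↔ (x : G) ∈ normalizer (S : Set G) := by
    intro x
    rw [mem_normalizer_iff, mem_normalizer_iff]
    constructor
    · intro h3 s
      refine ⟨fun h4 => ?_, fun h4 => ?_⟩
      · have h5 := (h3 _).1 ((hT ⟨s, hS h4⟩).2 h4)
        rw [← map_inv, ← map_mul, ← map_mul] at h5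
        exact (hT _).1 h5
      · have h5 : s ∈ centralizer ({z} : Set G) := by
          rw [show s = (x : G)⁻¹ * (x * s * (x : G)⁻¹) * x by group]
          exact mul_mem (mul_mem (inv_mem x.2) (hS h4)) x.2
        refine (hT ⟨s, h5⟩).1 ((h3 _).2 ?_)
        rw [← map_inv, ← map_mul, ← map_mul]
        exact (hT _).2 h4
    · intro h3 l
      obtain ⟨y, rfl⟩ := hs l
      rw [← map_inv, ← map_mul, ← map_mul, hT, hT]
      exact h3 y
  refine cnt_stab h hE h2 hu le_normalizer hN hvE hv1 hvN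
    ((π.comp (inclusion hN)).codRestrict _ fun x => (hM _).2 x.2) (fun l => ?_) fun x => ?_
  · obtain ⟨y, hy⟩ := hs l
    exact ⟨⟨y, (hM y).1 (hy ▸ l.2)⟩, Subtype.ext hy⟩
  · exact Subtype.ext_iff.trans (hk (inclusion hN x))

theorem kk_bot {L : Type} [Group L] (H : Subgroup L) : kk H ⊥ 1 = Nat.card {χ : H → ℂ // OI H χ} :=
  Nat.card_congr (Equiv.subtypeEquivRight fun ψ => and_iff_left fun x hx => by
    rw [show x = 1 from Subtype.ext hx]
    exact (one_mul _).symm)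

theorem ih_cnt {L : Type} [Group L] [Finite L] {n : ℕ} (ih : IH n) (hn : Nat.card L < n) (T : Sylow 2 L) :
    Nat.card {χ : normalizer ((T : Subgroup L) : Set L) → ℂ // OI _ χ} = Nat.card {χ : L → ℂ // OI L χ} := by
  rw [← kk_bot, ← ih L ⊥ bot_le (by rwa [index_bot]) 1 T, kk_top]
  refine Nat.card_congr (Equiv.subtypeEquivRight fun ψ => and_iff_left fun x hx => ?_)
  rw [mem_bot.1 hx]
  exact (one_mul _).symm

/-- **`k0 N_G(S) = 2 k0 L`** -/
theorem cnt_ih [Finite G] (h : Large E z) (hne : ∃ x ∈ E, x ≠ 1 ∧ x ≠ z) (P : Sylow 2 G)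
    (hS : (P : Subgroup G) ≤ centralizer ({z} : Set G)) (hu : Uq E P z) {L : Type} [Group L]
    (π : centralizer ({z} : Set G) →* L) (hs : Function.Surjective π) (hk : ∀ x, π x = 1 ↔ (x : G) ∈ E) {n : ℕ}
    (ih : IH n) (hn : Nat.card L < n) :
    Nat.card {χ : normalizer ((P : Subgroup G) : Set G) → ℂ // OI _ χ} = 2 * Nat.card {η : L → ℂ // OI L η} := by
  have : Fact (Nat.Prime 2) := ⟨Nat.prime_two⟩
  have : Finite L := Finite.of_surjective _ hs
  rw [cnt_large h hne (le_sylow h P hS) hS P.isPGroup' hu π hs hk]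
  exact congrArg _ (ih_cnt ih hn ((P.subtype hS).mapSurjective hs))

end large

end Cfsg.Agent.MK.S8
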