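import Cfsg.Agent.MK.S8.Bits
import Cfsg.Agent.MK.S.Congr
import Cfsg.Agent.KFacts.Baby.Sheet
import Cfsg.Agent.KFacts.Baby.RowB
import Cfsg.Agent.CpAut.TwoInnerB
import Cfsg.Agent.Schreier.CoTwoStab
import Cfsg.Agent.TAB.B.Fin.Main
import Cfsg.Agent.TAB.Co2.Main

/-!
# MK, small rows: the Baby Monster (helper54)
-/

set_option autoImplicit false

namespace Cfsg.Agent.MK.S8

open Cfsg Subgroup Cfsg.Agent.MK.T

namespace Baby

open Cfsg.Agent.Monster.PauliBasic Cfsg.Agent.Monster.PauliBits Cfsg.Agent.Monster.PauliClif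
open Cfsg.Agent.BabyM Cfsg.Agent.BabyM.Conc Cfsg.Agent.BabyM.KTab Cfsg.Agent.BabyM.KRow Cfsg.Agent.BabyM.KRowData
open Cfsg.Agent.BabyU.ClosLane Cfsg.Agent.KFacts.Baby.Inst

/-- the element of `Q` -/
noncomputable def el (x : Pauli 11) : BabyU.ClosModel.PP Inst.M :=
  ⟨⟨Cd.R x, A.C_le_G (A.grp.Q_le (R_mem_Q x))⟩, R_mem_Q x⟩

theorem el_mul (x y : Pauli 11) : el (x * y) = el x * el y := Subtype.ext (Subtype.ext (map_mul Cd.R x y))

theorem pr_el {x y : Pauli 11} (h : ab x = ab y) : (large A).pr (el x) = (large A).pr (el y) :=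
  (large A).pr_eq_pr.2 ((R_eq_or h).imp Subtype.ext Subtype.ext)

/-- coordinates -/
noncomputable def c (m : ℕ) : (large A).V := (large A).pr (el (dec 11 m))

theorem exists_v (x : Pauli 11) : ∃ m, ab x = v m := by
  refine closure_induction (p := fun x _ => ∃ m, ab x = v m) ?_ ⟨0, by rw [v, dec_zero]⟩ ?_ ?_
    (KQ.closure_gens ▸ mem_top x)
  · rintro _ ⟨k, -, rfl⟩
    exact ⟨_, rfl⟩
  · rintro x y - - ⟨m, hm⟩ ⟨n, hn⟩
    exact ⟨m ^^^ n, by rw [ab_mul, hm, hn, v_xor]⟩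
  · rintro x - ⟨m, hm⟩
    refine ⟨m, add_right_cancel (b := ab x) ?_⟩
    rw [← ab_mul, inv_mul_cancel, hm, add_self']
    rfl

theorem crd : Crd 22 c where
  xor x y := by
    rw [c, c, c, ← (large A).pr_mul, ← el_mul]
    exact pr_el (v_xor x y)
  mod x := pr_el (by rw [← Nat.and_two_pow_sub_one_eq_mod]; exact v_land x)
  surj w := by
    obtain ⟨⟨⟨q, h1⟩, h2⟩, rfl⟩ := (large A).pr_surjective w
    obtain ⟨x, rfl⟩ := KLink.link.mem_Q.1 h2
    obtain ⟨m, hm⟩ := exists_v x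
    exact ⟨m, pr_el hm.symm⟩

/-- the letters -/
def yl (i : ℕ) : Ltr := [Ltr.y1, .y2, .y3, .y4, .y5, .y6, .y7, .y8, .y9].getD i .y10

/-- the matrices -/
noncomputable def yI (i k : ℕ) : ℕ := im ([I_y1, I_y2, I_y3, I_y4, I_y5, I_y6, I_y7, I_y8, I_y9].getD i I_y10) k

theorem yl_C (i : ℕ) : E (yl i) ∈ Inst.M.C := by
  refine E_mem_C ?_
  unfold yl
  rcases i with _ | _ | _ | _ | _ | _ | _ | _ | _ | _ <;> rfl

/-- the generators -/
noncomputable def g (i : ℕ) : centralizer ({BabyU.ClosModel.zz A} : Set Inst.M.G) :=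
  ⟨⟨E (yl i), A.C_le_G (yl_C i)⟩, (mem_cen A).2 (yl_C i)⟩

theorem rel : ∀ i < 10, ∀ k < 22, E (yl i) * Cd.R (dec 11 (2 ^ k)) = Cd.R (dec 11 (yI i k)) * E (yl i) := by
  intro i hi
  interval_cases i
  exacts [KRelY1.rel_y1, KRelY1.rel_y2, KRelY1.rel_y3, KRelY1.rel_y4, KRelY1.rel_y5, KRelY2.rel_y6, KRelY2.rel_y7,
    KRelY2.rel_y8, KRelY2.rel_y9, KRelY2.rel_y10]

theorem act_g : ∀ i < 10, ∀ k < 22, (large A).act (g i) (c (2 ^ k)) = c (yI i k) := fun i hi k hk => by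
  rw [c, (large A).act_pr]
  exact congrArg _ (Subtype.ext (Subtype.ext (mul_inv_eq_iff_eq_mul.2 (rel i hi k hk))))

theorem chk2 : ∀ i < 10, ∀ k < 22, lin (yI i) (yI i k) 22 % 2 ^ 22 = 2 ^ k ∧
    ∀ j < 10, lin (yI i) (yI j k) 22 % 2 ^ 22 = lin (yI j) (yI i k) 22 % 2 ^ 22 := by decide +kernel

/-- the certificate -/
def cert : List (List (ℕ × ℕ)) :=
  [[(0, 15), (0, 19), (1, 19), (4, 16), (7, 20)], [(0, 15), (0, 19), (1, 19), (2, 18)], [(0, 15), (0, 19), (4, 16)],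
  [(0, 15), (0, 19), (1, 19)], [(0, 18), (0, 19), (2, 18), (7, 19)], [(0, 18), (0, 19), (2, 18)],
  [(0, 15), (0, 19), (1, 19), (4, 16)], [(0, 12), (0, 19), (1, 19), (4, 16)], [(2, 18), (2, 20), (4, 16), (7, 20)],
  [(0, 15), (1, 19)], [(0, 0)], [(0, 21)], [(1, 21)], [(0, 15), (0, 19), (1, 19), (2, 18), (2, 21)], [(3, 21)],
  [(4, 21)], [(0, 15), (0, 19), (1, 19), (5, 21)], [(0, 18), (0, 19), (2, 18), (6, 21), (7, 19)], [(7, 21)],
  [(8, 21)], [(0, 15), (0, 19), (1, 19), (4, 16), (7, 20), (9, 21)]]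

theorem chkU : ∀ j < 22, j ≠ 21 → cs yI (cert.getD j []) % 2 ^ 22 = 2 ^ j ∧
    ∀ p ∈ cert.getD j [], p.1 < 10 ∧ p.2 < 22 := by decide +kernel

theorem sm : S.SmS Inst.M.G := by
  have := A.finite_G
  have hs : IsSimpleGroup Spor.BabyMonster := KFacts.Baby.RowB.simple_B
  obtain ⟨e⟩ := KFacts.Baby.Sheet.exists_iso_of_isoB (K := Spor.BabyMonster) ⟨MulEquiv.refl _⟩
  have := e.isSimpleGroup
  obtain ⟨π, hπs, hπ⟩ := quot A
  obtain ⟨f⟩ := Schreier.CoTwoStab.exists_equiv Co2GenStd.l₀ GroupInst.dt_l₀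
  obtain ⟨D, h1, h2, h3⟩ := two_of_bits (large A) crd act_g chk2
  refine Lg.sm_one (π := π) ⟨large A, ⟨_, BabyU.ClosModel.tP A, BabyU.ClosModel.t_ne A, fun h => ?_⟩,
    syl_of (odd_index A).not_two_dvd_nat h1 h2 (uq_of_bits (large A) h2 crd h3 act_g 21 cert chkU), hπs, hπ⟩
    (S5.index_one fun α => ?_) ?_
  · obtain ⟨q, hq, h4⟩ := BabyU.ClosModel.fuse A
    rw [h, BabyU.ClosModel.zc A q hq, mul_inv_cancel_right, BabyU.ClosModel.z_sq] at h4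
    exact BabyU.ClosModel.z_ne A h4
  · obtain ⟨x, hx⟩ := CpAut.TwoInner.inner_b (MulAut.congr e α)
    refine ⟨e.symm x, (MulAut.congr e).injective (hx.trans (MulEquiv.ext fun y => ?_))⟩
    simp [MulAut.congr]
  · rw [k0_congr e, k0_of_degList TAB.B.Fin.deg]
    refine Eq.trans ?_ (congrArg _ (k0_congr f).symm)
    rw [k0_of_degList TAB.Co2.deg]
    decide +kernel

end Baby

/-- **the Baby Monster** -/
theorem b : S.SmS Spor.BabyMonster := by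
  have hs : IsSimpleGroup Spor.BabyMonster := KFacts.Baby.RowB.simple_B
  obtain ⟨e⟩ := KFacts.Baby.Sheet.exists_iso_of_isoB (K := Spor.BabyMonster) ⟨MulEquiv.refl _⟩
  exact Baby.sm.congr e.symm

end Cfsg.Agent.MK.S8
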