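import Cfsg.Agent.MK.T.A
import Cfsg.Agent.TAB.HN.Sig
import Cfsg.Agent.GAL.Spor.Loc
import Cfsg.Agent.KFacts.HN.Sheet
import Cfsg.Agent.S0145

/-!
# MK, small rows: the characters of `HN` which are fixed by an outer automorphism (helper54)
-/

set_option autoImplicit false
set_option maxRecDepth 100000

namespace Cfsg.Agent.MK.S8

open Cfsg Subgroup Cfsg.Agent.MK.T Cfsg.Agent.TAB.Eng Cfsg.Agent.TAB.Use Cfsg.Agent.Characters
open scoped ComplexConjugate

open scoped Classical in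
theorem col_enum {G : Type} [Group G] [Finite G] {n : ℕ} {d : ℕ → ℕ} {χ : ℕ → G → ℂ} (hE : Enum G n d χ) (x y : G) :
    ∑ j ∈ Finset.range n, χ j x * conj (χ j y) =
      if IsConj x y then (Nat.card (centralizer ({y} : Set G)) : ℂ) else 0 := by
  have := Core.finite_irr (G := G)
  have := Fintype.ofFinite (IrrCharacter G)
  have := Fintype.ofFinite G
  rw [← S0145.sum_irr_mul_conj]
  exact Finset.sum_bij (fun j hj => ⟨χ j, hE.irr j (Finset.mem_range.1 hj)⟩) (fun _ _ => Finset.mem_univ _)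
    (fun i hi j hj h => hE.inj i (Finset.mem_range.1 hi) j (Finset.mem_range.1 hj) (congrArg Subtype.val h))
    (fun ψ _ => by
      obtain ⟨j, hj, h⟩ := hE.all ψ.1 ψ.2
      exact ⟨j, Finset.mem_range.2 hj, Subtype.ext h.symm⟩) fun _ _ => rfl

/-- **two columns with the same sums over pairs of characters** -/
theorem col_pair {G : Type} [Group G] [Finite G] {n : ℕ} {d : ℕ → ℕ} {χ : ℕ → G → ℂ} (hE : Enum G n d χ) {g g' : G}
    (hn : ¬ IsConj g g') {p : ℕ → ℕ} (hp : ∀ j < n, p j < n ∧ p (p j) = j) {W : ℕ → ℤ}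
    (h1 : ∀ j < n, χ j g + χ (p j) g = W j) (h2 : ∀ j < n, χ j g' + χ (p j) g' = W j) {c : ℕ}
    (hc : Nat.card (centralizer ({g} : Set G)) = c) (hc' : Nat.card (centralizer ({g'} : Set G)) = c)
    (hs : ∑ j ∈ Finset.range n, W j * W j = 2 * c) {j : ℕ} (hj : j < n) : χ j g + χ j g' = W j := by
  have a1 := col_enum hE g g
  have a2 := col_enum hE g' g'
  have a3 := col_enum hE g g'
  have a4 := col_enum hE g' g
  rw [if_pos (IsConj.refl _), hc] at a1
  rw [if_pos (IsConj.refl _), hc'] at a2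
  rw [if_neg hn] at a3
  rw [if_neg fun h => hn h.symm] at a4
  have a5 : ∑ j ∈ Finset.range n, (χ j g + χ j g' - W j) * W j = 0 :=
    Finset.sum_involution (fun j _ => p j) (fun j hj => by
      have hj := Finset.mem_range.1 hj
      have b1 := h1 _ (hp j hj).1
      rw [(hp j hj).2, add_comm, h1 j hj] at b1
      rw [← b1]
      linear_combination (W j : ℂ) * (h1 j hj + h2 j hj))
    (fun j hj h e => h (by
      have b1 := h1 j (Finset.mem_range.1 hj)
      have b2 := h2 j (Finset.mem_range.1 hj)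
      rw [e] at b1 b2
      linear_combination (W j : ℂ) * (b1 + b2) / 2))
    (fun j hj => Finset.mem_range.2 (hp j (Finset.mem_range.1 hj)).1) fun j hj => (hp j (Finset.mem_range.1 hj)).2
  have a6 := congrArg conj a5
  simp only [map_sum, map_mul, map_sub, map_add, map_intCast, map_zero] at a6
  have a7 : ∑ j ∈ Finset.range n, (W j : ℂ) * W j = 2 * c := by exact_mod_cast hs
  have a8 : ∑ j ∈ Finset.range n, (Complex.normSq (χ j g + χ j g' - W j) : ℂ) = 0 := by
    rw [Finset.sum_congr rfl (g := fun j => χ j g * conj (χ j g) + χ j g' * conj (χ j g') + χ j g * conj (χ j g') +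
      χ j g' * conj (χ j g) - (χ j g + χ j g' - W j) * W j - (conj (χ j g) + conj (χ j g') - W j) * W j - W j * W j)
      fun j _ => by
        rw [← Complex.mul_conj]
        simp only [map_sub, map_add, map_intCast]
        ring]
    simp only [Finset.sum_sub_distrib, Finset.sum_add_distrib]
    rw [a1, a2, a3, a4, a5, a6, a7]
    ring
  have a9 : ∑ j ∈ Finset.range n, Complex.normSq (χ j g + χ j g' - W j) = 0 := by exact_mod_cast a8
  exact sub_eq_zero.1 (Complex.normSq_eq_zero.1 ((Finset.sum_eq_zero_iff_of_nonneg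
    fun _ _ => Complex.normSq_nonneg _).1 a9 j (Finset.mem_range.2 hj)))

namespace HNT

open Cfsg.Agent.TAB.HN Cfsg.Agent.TAB.HN.Sg

/-- the partner -/
def pa (j : ℕ) : ℕ := if j ∈ [1, 5, 10, 12, 14, 20, 24, 26, 29, 34, 50] then j + 1
  else if j ∈ [2, 6, 11, 13, 15, 21, 25, 27, 30, 35, 51] then j - 1 else j

/-- the relation -/
def rl (j : ℕ) : List (ℕ × ℤ) × List ℤ := (rows.rel.filter fun r => r.1.any fun q => q.1 == j).headD ([], [])

/-- the sums -/
def W (t j : ℕ) : ℤ := if pa j = j then 2 * (rl j).2.getD t 0 else (rl j).2.getD t 0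

theorem chk_rl : ∀ j < rows.n, (pa j < rows.n ∧ pa (pa j) = j) ∧ rl j ∈ rows.rel ∧
    if pa j = j then (rl j).1 = [(j, 1)] else (rl j).1 = [(j, 1), (pa j, 1)] ∨ (rl j).1 = [(pa j, 1), (j, 1)] := by
  decide +kernel

theorem chk_t : ∀ t ∈ [10, 38, 41], TyA.jL.getD t 0 ≠ 4 ∧ t ≠ 32 ∧ dat.pwf t KK = t ∧
    ¬ dat.cnt t * cenL.getD t 0 ≤ 1 * 273030912000000 ∧
    ∑ j ∈ Finset.range rows.n, W t j * W t j = 2 * (cenL.getD t 0 : ℕ) := by decide +kernel

theorem chk_j : ∀ j < rows.n, rows.d j % 2 = 1 → if pa j = j then ∀ i < rows.n, rows.d i = rows.d j → i = j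
    else ∃ t ∈ [10, 38, 41], W t j % 2 ≠ 0 := by decide +kernel

theorem not_conj {g : G} (hg : T.ty g ∈ [10, 38, 41]) : ¬ IsConj g (g ^ KK) := fun h => by
  obtain ⟨h1, h2, -, h3, -⟩ := chk_t _ hg
  have h4 := TyA.cnt_rp (t := T.ty g) (n := H651.HNF.cn g) (j := 1)
    ⟨g, dvd_rfl, by rw [pow_one]; exact h.symm, fun g' hg => tw g g' hg.symm h2⟩ (.inl rfl)
  have h5 : Nat.card {x : G // tyF x = T.ty g} = dat.cnt (T.ty g) := mass.2 _ (T.lt g)
  rw [h5, H651.HNF.cn, cent_eq g h1] at h4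
  exact h3 h4

theorem exists_tw {α : MulAut G} (hα : α ∉ (MulAut.conj : G →* MulAut G).range) {t : ℕ} (ht : t ∈ [10, 38, 41]) :
    ∃ g, T.ty g = t ∧ IsConj (g ^ KK) (α g) := by
  have key : ∀ (β : MulAut G) (g : G), T.ty g = t → IsConj (g ^ KK) (β g) → IsConj (g ^ KK) (α g) := fun β g hg h => by
    obtain ⟨s, hs⟩ := GAL.Spor.two_of_index KFacts.HN.out_index β α (fun ⟨s, e⟩ => not_conj (hg ▸ ht)
      ((isConj_iff.2 ⟨s, rfl⟩).trans (e ▸ h : IsConj _ (MulAut.conj s g)).symm)) fun e =>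
      hα (GAL.Spor.inner_iff_mem.1 e)
    rw [mul_inv_eq_iff_eq_mul.1 hs]
    exact h.trans (isConj_iff.2 ⟨s, rfl⟩)
  by_cases h41 : t = 41
  · obtain ⟨β, g, h1, h2⟩ := aut2
    exact ⟨g, h1.trans h41.symm, key β g (h1.trans h41.symm) (h2 ▸ IsConj.refl _)⟩
  · obtain ⟨β, hβ⟩ := aut1
    obtain ⟨h1, h2⟩ := (by decide : ∀ t ∈ [10, 38, 41], t ≠ 41 → t < 43 ∧ t ∈ [10, 38]) t ht h41
    obtain ⟨g, hg⟩ := inh t h1
    exact ⟨g, hg, key β g hg (hβ g (hg ▸ h2))⟩

theorem f0_out {α : MulAut G} (hα : α ∉ (MulAut.conj : G →* MulAut G).range) : f0 α = 8 := by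
  have := Tl.finG
  obtain ⟨χ, hE, hR⟩ := tab
  have h1 : ∀ g, ∀ j < rows.n, χ j g + χ (pa j) g = W (T.ty g) j := fun g j hj => by
    obtain ⟨-, h2, h3⟩ := chk_rl j hj
    rw [W]
    split_ifs at h3 ⊢ with h
    · rw [h, hR.row h2 h3]
      push_cast
      ring
    · exact TAB.Sz.pair_sum hR h2 h3 g
  rw [f0_enum hE (q := fun j => decide (pa j = j)) fun j hj ho => ?_]
  · decide +kernel
  have h2 := chk_j j hj (Nat.odd_iff.1 ho)
  rw [decide_eq_true_eq]
  split_ifs at h2 with h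
  · exact iff_of_true (enum_fix hE α hj h2) h
  · refine iff_of_false (fun hf => ?_) h
    obtain ⟨t, ht, h3⟩ := h2
    obtain ⟨g, rfl, hg⟩ := exists_tw hα ht
    obtain ⟨h4, -, h5, -, h6⟩ := chk_t _ ht
    have h7 : T.ty (g ^ KK) = T.ty g := (T.pow g KK).trans h5
    have h8 := col_pair hE (not_conj ht) (fun j hj => (chk_rl j hj).1) (h1 g) (h7 ▸ h1 (g ^ KK)) (cent_eq g h4)
      (h7 ▸ cent_eq (g ^ KK) (h7 ▸ h4)) h6 hj
    rw [irr_conj (hE.irr j hj) hg, hf] at h8
    exact not_half (hE.irr j hj) h8 h3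

theorem k0_hn : k0 G = 16 := by
  rw [k0_of_degList deg]
  decide +kernel

end HNT

end Cfsg.Agent.MK.S8
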