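import Cfsg.Agent.MK.A.Four
import Cfsg.Agent.MK.A.Alt
import Cfsg.Agent.S2119

/-!
# MK, small rows: fixed characters of a wreath product `A ≀ 2` (helper54)
-/

set_option autoImplicit false

namespace Cfsg.Agent.MK.S8

open Cfsg Subgroup Cfsg.Agent.Characters.Core Cfsg.Agent.MK.T Cfsg.Agent.MK.A Cfsg.Agent.HKS.CosetTwo

theorem f0_id (G : Type) [Group G] : f0 (1 : MulAut G) = k0 G := f0_eq_of_all fun _ _ _ => rfl

variable {A L : Type} [Group A] [Group L] {j : A × A →* L} {t : L} {β : MulAut L} {r r' : MulAut A}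

/-- the image of the flip -/
theorem wr_flip [Finite L] (hj : Function.Injective j) (hi : j.range.index = 2) (ht : t ∉ j.range) (h2 : t * t = 1)
    (hs : ∀ a b, t * j (a, b) * t⁻¹ = j (b, a)) (hβ : ∀ a b, β (j (a, b)) = j (r a, r' b)) :
    ∃ p, β t = j (p, p⁻¹) * t ∧ ∀ a, r' a = p⁻¹ * r a * p := by
  have h1 : β t ∉ j.range := fun ⟨x, e⟩ => ht ⟨(r.symm x.1, r'.symm x.2), β.injective (by
    rw [hβ, r.apply_symm_apply, r'.apply_symm_apply, ← e])⟩
  obtain ⟨⟨p, q⟩, e⟩ := (mul_mem_iff_of_index_two hi).2 (iff_of_false h1 fun h => ht (inv_mem_iff.1 h))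
  have h3 : β t = j (p, q) * t := by rw [e, inv_mul_cancel_right]
  have h4 : j ((p, q) * (q, p)) = j 1 := by
    rw [map_mul, ← hs p q, map_one, ← map_one β, ← h2, map_mul, h3, inv_eq_of_mul_eq_one_right h2]
    simp only [mul_assoc]
  obtain rfl : q = p⁻¹ := eq_inv_of_mul_eq_one_right (congrArg Prod.fst (hj h4))
  refine ⟨p, h3, fun a => ?_⟩
  have h5 := congrArg β (hs a 1)
  rw [map_mul, map_mul, map_inv, hβ, hβ, h3, map_one, map_one, show j (p, p⁻¹) * t * j (r a, 1) * (j (p, p⁻¹) * t)⁻¹ =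
    j (p, p⁻¹) * (t * j (r a, 1) * t⁻¹) * (j (p, p⁻¹))⁻¹ by group, hs, ← map_inv, ← map_mul, ← map_mul] at h5
  exact (congrArg Prod.snd (hj h5)).symm.trans (congrArg _ (inv_inv p))

/-- inner on the factors gives inner -/
theorem wr_inner [Finite L] (hj : Function.Injective j) (hi : j.range.index = 2) (ht : t ∉ j.range) (h2 : t * t = 1)
    (hs : ∀ a b, t * j (a, b) * t⁻¹ = j (b, a)) (hβ : ∀ a b, β (j (a, b)) = j (r a, r' b))
    (hr : r ∈ (MulAut.conj : A →* MulAut A).range) : β ∈ (MulAut.conj : L →* MulAut L).range := by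
  obtain ⟨p, h3, h4⟩ := wr_flip hj hi ht h2 hs hβ
  obtain ⟨s, rfl⟩ := hr
  have h5 : ∀ x, MulAut.conj (j (s, p⁻¹ * s)) (j x) = β (j x) := fun ⟨a, b⟩ => by
    rw [hβ, h4, MulAut.conj_apply, ← map_inv, ← map_mul, ← map_mul]
    exact congrArg j (Prod.ext rfl (by simp only [Prod.snd_mul, Prod.snd_inv, MulAut.conj_apply]; group))
  have h6 : MulAut.conj (j (s, p⁻¹ * s)) t = β t := by
    rw [h3, MulAut.conj_apply, ← map_inv, mul_assoc, ← inv_mul_cancel_right (t * j _) t, Prod.inv_mk, hs,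
      ← mul_assoc, ← map_mul]
    exact congrArg (j · * t) (Prod.ext (by simp only [Prod.fst_mul]; group) (by simp only [Prod.snd_mul]; group))
  refine ⟨j (s, p⁻¹ * s), MulEquiv.ext fun x => ?_⟩
  by_cases hx : x ∈ j.range
  · obtain ⟨y, rfl⟩ := hx
    exact h5 y
  · obtain ⟨y, e⟩ := (mul_mem_iff_of_index_two hi).2 (iff_of_false hx fun h => ht (inv_mem_iff.1 h))
    rw [← inv_mul_cancel_right x t, ← e, map_mul, map_mul β, h5, h6]

/-- **the fixed characters** -/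
theorem f0_wr [Finite L] (hj : Function.Injective j) (hi : j.range.index = 2) (ht : t ∉ j.range) (h2 : t * t = 1)
    (hs : ∀ a b, t * j (a, b) * t⁻¹ = j (b, a)) (hβ : ∀ a b, β (j (a, b)) = j (r a, r' b)) : f0 β = 2 * f0 r := by
  have : Finite (A × A) := Finite.of_injective _ hj
  have : Finite A := Finite.of_injective (fun a : A => (a, a)) fun _ _ e => congrArg Prod.fst e
  have := normal_of_index_eq_two hi
  obtain ⟨p, h3, h4⟩ := wr_flip hj hi ht h2 hs hβ
  have h5 : β t = j (p, 1) * t * (j (p, 1))⁻¹ := by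
    rw [h3, ← map_inv, mul_assoc, ← inv_mul_cancel_right (t * j _) t, Prod.inv_mk, hs, ← mul_assoc, ← map_mul,
      Prod.mk_mul_mk, inv_one, mul_one, one_mul]
  have h6 : f0 β = Nat.card {χ // OI L χ ∧ ∀ a b, χ (j (r a, r' b)) = χ (j (a, b))} := by
    refine Nat.card_congr (Equiv.subtypeEquivRight fun χ => and_congr_right fun hχ =>
      ⟨fun h a b => by rw [← hβ, h], fun h => ?_⟩)
    rcases eq_or_sg hi hχ.1 (oi_equiv β hχ).1 one_ne_zero (e := 1) (by
      rintro _ ⟨⟨a, b⟩, rfl⟩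
      rw [hβ, h]) with e | e
    · exact congrFun e
    · have h7 := congrFun e t
      rw [Pi.mul_apply, sg_of_notMem hi ht, h5, isIrr_isClassFunction hχ.1] at h7
      exact absurd ((par (isIrr_isCharacter hχ.1) (j := 1) (z := 0) (by rw [pow_one, pow_two, h2])
        (by push_cast; linear_combination h7 / 2)).1 hχ.2) (by decide)
  rw [h6, card_two_res hi ht (q := fun θ => ∀ a b, θ ⟨j (r a, r' b), _, rfl⟩ = θ ⟨j (a, b), _, rfl⟩) fun χ θ h =>
    forall_congr' fun a => forall_congr' fun b => by rw [← h, ← h]]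
  congr 1
  refine (card_congr (MonoidHom.ofInjective hj) (p := fun θ => (∀ a b, θ (r a, r' b) = θ (a, b)) ∧
    ∀ a b, θ (b, a) = θ (a, b)) fun θ _ => and_congr Iff.rfl ⟨fun h y => by
      obtain ⟨⟨a, b⟩, rfl⟩ := (MonoidHom.ofInjective hj).surjective y
      exact (congrArg θ (Subtype.ext (hs a b))).trans (h a b),
    fun h a b => (congrArg θ (Subtype.ext (hs a b).symm)).trans (h (MonoidHom.ofInjective hj (a, b)))⟩).symm.trans ?_
  rw [card_prod, f0_def]
  have k : ∀ x : (A → ℂ) × (A → ℂ), OI A x.1 ∧ OI A x.2 →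
      (∀ a b, x.1 b * x.2 a = x.1 a * x.2 b) → x.2 = x.1 := fun x h1 h7 =>
    eq_of_prop h1.2.1 h1.1.1 h1.1.one_ne (e := x.2 1) fun g => (mul_comm _ _).trans (h7 g 1)
  refine Nat.card_congr (Equiv.ofBijective (fun x => ⟨x.1.1, x.2.1.1, fun a => mul_right_cancel₀ x.2.1.2.one_ne
    ((congrArg (fun y => x.1.1 (r a) * x.1.2 y) (map_one r').symm).trans (x.2.2.1 a 1))⟩) ⟨fun a b e => ?_, fun φ => ?_⟩)
  · have h1 : a.1.1 = b.1.1 := congrArg Subtype.val e
    exact Subtype.ext (Prod.ext h1 ((k _ a.2.1 a.2.2.2).trans (h1.trans (k _ b.2.1 b.2.2.2).symm)))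
  · refine ⟨⟨(φ.1, φ.1), ⟨φ.2.1, φ.2.1⟩, fun a b => ?_, fun a b => mul_comm _ _⟩, rfl⟩
    have h7 := isIrr_isClassFunction φ.2.1.1 (r b) p⁻¹
    rw [inv_inv] at h7
    show φ.1 (r a) * φ.1 (r' b) = φ.1 a * φ.1 b
    rw [h4, h7, φ.2.2, φ.2.2]

theorem k0_alt5 : k0 (alternatingGroup (Fin 5)) = 4 := ko_alt_pow (k := 0) (ε := 1) le_rfl rfl

theorem f0_alt5 {r : MulAut (alternatingGroup (Fin 5))}
    (hr : r ∉ (MulAut.conj : _ →* MulAut (alternatingGroup (Fin 5))).range) : f0 r = 2 := by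
  obtain ⟨s, rfl⟩ := (S2119.result 5 (by norm_num) (by norm_num)).2 r
  have h1 := k0_index_two' (index_alt (n := 5) (by norm_num)) (g := s) fun h => hr ⟨⟨s, h⟩, rfl⟩
  have h2 : k0 (Equiv.Perm (Fin 5)) = 4 :=
    (ko_step (γ := Fin 1) (k := 2) (by decide) rfl).trans (by rw [ko_pow (k := 0) rfl]; rfl)
  omega

end Cfsg.Agent.MK.S8
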