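import Cfsg.Agent.MK.S8.Sheet
import Cfsg.Agent.MK.S8.Wr
import Cfsg.Agent.MK.S8.HNT
import Cfsg.Agent.MK.S5.Gen
import Cfsg.Agent.GAL.Spor.HN
import Cfsg.Agent.KFacts.HN.Classes

/-!
# MK, small rows: the Harada-Norton group (helper54)
-/

set_option autoImplicit false

namespace Cfsg.Agent.MK.S8

open Cfsg Subgroup Cfsg.Agent.MK.T

namespace HaNo

open Cfsg.Agent.KFacts.HN Cfsg.Agent.HN Cfsg.Agent.HN.Pres Cfsg.Agent.HN.XMat Cfsg.Agent.HN.XStruct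
open Cfsg.Agent.HN.XWords Cfsg.Agent.HN.XQuot Cfsg.Agent.HN.XInst

/-- three commuting involutions of the quotient -/
def ws : List (List ℕ) := [[1, 1, 0, 1, 0], [0, 1, 0, 1, 1], [2, 1, 2, 1, 2, 1]]

theorem chk_ws : ∀ v ∈ ws, mw (v ++ v) = mw [] ∧ ∀ w ∈ ws, mw (v ++ w) = mw (w ++ v) := by decide +kernel

theorem chk_fx : ∀ m < 256, (∀ w ∈ ws, app (mw w) m = m) → m = 0 ∨ m = 91 := by decide +kernel

/-- the `2`-subgroup -/
noncomputable def DD : Subgroup Spor.HN := ((closure {x | ∃ w ∈ ws, e w = x}).comap ρ).map PP.subtype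

theorem two_DD : IsPGroup 2 DD := by
  refine ((S5.isPGroup_closure ?_ ?_).comap_of_ker_isPGroup ρ ?_).map _
  · rintro _ ⟨v, hv, rfl⟩
    rw [← e_append, e_eq (chk_ws v hv).1, e_nil]
  · rintro _ ⟨v, hv, rfl⟩ _ ⟨w, hw, rfl⟩
    rw [← e_append, ← e_append, e_eq ((chk_ws v hv).2 w hw)]
  · exact RS_isPGroup.of_equiv (equivMapOfInjective _ _ PP.subtype_injective).symm

theorem fx_app {m : ℕ} (hm : m < 256) {b : Bool} (h : Fx DD W0 (r Q m * sgn0 b)) : m = 0 ∨ m = 91 :=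
  chk_fx m hm fun w hw => by
    have h1 := h _ (inv_mem (⟨⟨_, e_mem_PP w⟩, subset_closure ⟨w, hw, (ρ_e w).symm⟩, rfl⟩ : evw Γ w ∈ DD))
    obtain ⟨c, hc⟩ := r_conj (e_mem_PP w) (acts_e w) m
    rw [inv_inv, mul_assoc, mul_assoc, ← csg b _ (comm_e w), ← mul_assoc, ← mul_assoc, hc, mul_assoc, sgn0_mul] at h1
    rcases h1 with h1 | h1
    · exact (r_sgn_inj (app_lt _ _) hm h1).1
    · exact (r_sgn_inj (app_lt _ _) hm (h1.trans ((mul_assoc _ _ _).trans (congrArg _ (sgn0_mul b true))))).1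

theorem uq : Uq RS DD W0 := by
  intro x hx y hy h1 h2
  obtain ⟨m, hm, b, rfl⟩ := mem_RS.1 hx
  obtain ⟨n, hn, c, rfl⟩ := mem_RS.1 hy
  have h0 : ∀ b, r Q 0 * sgn0 b = 1 ∨ r Q 0 * sgn0 b = W0 := fun b => by
    rw [Bas.r_zero, one_mul]
    cases b
    exacts [.inl rfl, .inr rfl]
  rcases fx_app hm h1 with rfl | rfl
  · exact .inl (h0 b)
  rcases fx_app hn h2 with rfl | rfl
  · exact .inr (.inl (h0 c))
  refine .inr (.inr ?_)
  by_cases h : b = c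
  · exact .inl (h ▸ rfl)
  · refine .inr (Eq.trans ?_ ((mul_assoc _ _ _).trans (congrArg _ (sgn0_mul c true))).symm)
    rw [Bool.xor_true, Bool.eq_not.2 h]

theorem lg : Lg RS W0 ρ := by
  have := finite_HN
  exact ⟨large, exists_noncentral, syl_of Classes.odd_index.not_two_dvd_nat two_DD (map_subtype_le _) uq, ρ_surj,
    fun x => ⟨fun hx => ⟨x, hx, rfl⟩, fun ⟨y, hy, e⟩ => (Subtype.ext e : y = x) ▸ hy⟩⟩

theorem φ2_inj' : Function.Injective φ2 := fun _ _ e => Prod.ext (φ2_inj e).1 (φ2_inj e).2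

/-- an involution which interchanges the factors -/
theorem exists_flip : ∃ t : Lq, t ∉ φ2.range ∧ t * t = 1 ∧ ∀ a b, t * φ2 (a, b) * t⁻¹ = φ2 (b, a) := by
  obtain ⟨p, q, h⟩ := mem_LL.1 e11_mem
  rw [show ([1, 1] : List ℕ) = [1] ++ [1] from rfl, e_append] at h
  have h1 : ∀ a, φA p * (e [1])⁻¹ * φA a * (φA p * (e [1])⁻¹)⁻¹ = φB a := fun a =>
    calc _ = φA p * φB a * (φA p)⁻¹ := by rw [φB_apply]; group
      _ = _ := by rw [comm_AB, mul_inv_cancel_right]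
  have h2 : ∀ a, φA p * (e [1])⁻¹ * φB a * (φA p * (e [1])⁻¹)⁻¹ = φA a := fun a =>
    calc _ = φA p * ((e [1] * e [1])⁻¹ * φA a * (e [1] * e [1])) * (φA p)⁻¹ := by rw [φB_apply]; group
      _ = (φB q)⁻¹ * (φA a * φB q) := by rw [← h, comm_AB]; group
      _ = _ := by rw [comm_AB, inv_mul_cancel_left]
  have h4 : φA p * (e [1])⁻¹ ∉ φ2.range := fun h4 => e1_notMem (inv_mem_iff.1 ((mul_mem_cancel_left (A_mem p)).1 h4))
  generalize φA p * (e [1])⁻¹ = t at h1 h2 h4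
  have h3 : ∀ a b, t * φ2 (a, b) * t⁻¹ = φ2 (b, a) := fun a b =>
    calc _ = t * φA a * t⁻¹ * (t * φB b * t⁻¹) := by rw [φ2_apply]; group
      _ = _ := by rw [h1, h2, φ2_apply, comm_AB]
  refine ⟨t, h4, cent_LL ?_, h3⟩
  rintro _ ⟨⟨a, b⟩, rfl⟩
  calc _ = t * (t * φ2 (a, b) * t⁻¹) * t⁻¹ * (t * t) := by group
    _ = _ := by rw [h3, h3]

theorem exists_res {β : MulAut Lq} {φ : A5 →* Lq} (hφ : Function.Injective φ) (h : ∀ a, ∃ a', β (φ a) = φ a') :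
    ∃ r : MulAut A5, ∀ a, β (φ a) = φ (r a) := by
  choose f hf using h
  let g : A5 →* A5 := MonoidHom.mk' f fun x y => hφ (by rw [map_mul, ← hf, ← hf, ← hf, map_mul, map_mul])
  have hg : Function.Injective g := fun x y e => hφ (β.injective (by
    rw [hf, hf]
    exact congrArg φ e))
  exact ⟨MulEquiv.ofBijective g ⟨hg, Finite.surjective_of_injective hg⟩, hf⟩

theorem f0_Lq {β : MulAut Lq} (hβ : β ∉ (MulAut.conj : Lq →* MulAut Lq).range) : f0 β = 4 := by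
  have := finite_HN
  have : Finite Lq := Finite.of_surjective _ ρ_surj
  obtain ⟨t, h1, h2, h3⟩ := exists_flip
  have key : ∀ β : MulAut Lq, β ∉ (MulAut.conj : Lq →* MulAut Lq).range → (∀ a, ∃ a', β (φA a) = φA a') →
      (∀ a, ∃ a', β (φB a) = φB a') → f0 β = 4 := fun β hβ hA hB => by
    obtain ⟨r, hr⟩ := exists_res φA_inj hA
    obtain ⟨r', hr'⟩ := exists_res φB_inj hB
    have h4 : ∀ a b, β (φ2 (a, b)) = φ2 (r a, r' b) := fun a b => by rw [φ2_apply, map_mul, hr, hr', φ2_apply]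
    rw [f0_wr φ2_inj' index_LL h1 h2 h3 h4, f0_alt5 fun h => hβ (wr_inner φ2_inj' index_LL h1 h2 h3 h4 h)]
  obtain ⟨T, s, W⟩ := GAL.Spor.exists_wr
  rcases W.aut β with ⟨h4, h5⟩ | ⟨h4, h5⟩
  · exact key β hβ h4 h5
  · rw [← f0_conj_mul s]
    refine key _ (fun h => hβ ((mul_mem_cancel_left (MonoidHom.mem_range.2 ⟨s, rfl⟩)).1 h)) (fun a => ?_) fun a => ?_
    · obtain ⟨b, hb⟩ := h4 a
      exact (W.sw2 b).imp fun _ e => by rw [MulAut.mul_apply, hb, MulAut.conj_apply, e]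
    · obtain ⟨b, hb⟩ := h5 a
      exact (W.sw1 b).imp fun _ e => by rw [MulAut.mul_apply, hb, MulAut.conj_apply, e]

theorem k0_Lq : k0 Lq = 8 := by
  have := finite_HN
  have : Finite Lq := Finite.of_surjective _ ρ_surj
  obtain ⟨t, h1, h2, h3⟩ := exists_flip
  rw [← f0_id, f0_wr (r := 1) (r' := 1) φ2_inj' index_LL h1 h2 h3 fun _ _ => rfl, f0_id, k0_alt5]

end HaNo

open Cfsg.Agent.KFacts.HN in
/-- **the Harada-Norton group** -/
theorem hn : S.SmS Spor.HN := by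
  have := finite_HN
  have := H997.OutHN.simple'
  exact HaNo.lg.sm_two (au_of_sheet (OddHalf.D8.JTwo.Sheet.of_sheetE sheetE) out_index) out_index
    (by rw [HNT.k0_hn, HaNo.k0_Lq]) fun α β hα hβ _ => by rw [HNT.f0_out hα, HaNo.f0_Lq hβ]

end Cfsg.Agent.MK.S8
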