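import Cfsg.Agent.MK.S8.Aut
import Cfsg.Agent.ConwayFacts.AutCo1
import Cfsg.Agent.H208.SelfCoOne
import Cfsg.Agent.H848.MonsterSetup
import Cfsg.Agent.MonsterU.AmalElts
import Cfsg.Agent.S2085
import Cfsg.Agent.TAB.M.Main
import Cfsg.Agent.TAB.Co1.Tab

/-!
# MK, small rows: the Monster (helper54)
-/

set_option autoImplicit false

namespace Cfsg.Agent.MK.S8

open Cfsg Cfsg.Spor Subgroup Cfsg.Agent.MK.T Cfsg.Agent.QTNorm

/-- a self-normalizing Sylow subgroup fixes at most one point of each orbit -/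
theorem fix_eq {G Ω : Type} [Group G] [Finite G] [MulAction G Ω] (h : SelfN G) (T : Sylow 2 G) {u : Ω} (g : G)
    (hu : ∀ t ∈ (T : Subgroup G), t • u = u) (hw : ∀ t ∈ (T : Subgroup G), t • g • u = g • u) : g • u = u := by
  have := two_prime
  have h1 : (T : Subgroup G) ≤ MulAction.stabilizer G u := hu
  have h2 : ((g⁻¹ • T : Sylow 2 G) : Subgroup G) ≤ MulAction.stabilizer G u := by
    rintro _ ⟨t, ht, rfl⟩
    show (g⁻¹ * t * g⁻¹⁻¹) • u = u
    rw [inv_inv, mul_smul, mul_smul, hw t ht, inv_smul_smul]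
  obtain ⟨k, hk⟩ := MulAction.exists_smul_eq (MulAction.stabilizer G u) (T.subtype h1) ((g⁻¹ • T).subtype h2)
  rw [Sylow.smul_subtype] at hk
  have h3 : (g * k) • T = T := by
    rw [mul_smul, show (k : G) • T = g⁻¹ • T from Sylow.subtype_injective hk, smul_inv_smul]
  have h4 := hu _ (h T (Sylow.smul_eq_iff_mem_normalizer.1 h3))
  rwa [mul_smul, show (k : G) • u = u from k.2] at h4

/-- the orbit of a fixed point of a Sylow subgroup has odd length -/
theorem odd_orbit {G Ω : Type} [Group G] [Finite G] [MulAction G Ω] (T : Sylow 2 G) {u : Ω}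
    (hu : ∀ t ∈ (T : Subgroup G), t • u = u) : ¬ 2 ∣ (MulAction.orbit G u).ncard := by
  have := two_prime
  rw [← MulAction.index_stabilizer]
  exact fun h => T.not_dvd_index (h.trans (index_dvd_of_le hu))

section

open Cfsg.Agent.MonsterU.Lam2 Cfsg.Agent.ConwayFacts.NormL2

theorem ncard3 : {x : L2 | IsType 3 x}.ncard = 8386560 := by
  have h3 := ncard_three
  have hd : ∀ {n m : ℤ}, (n = 2 ∨ n = 3 ∨ n = 4) → (m = 2 ∨ m = 3 ∨ m = 4) →
      {x : L2 | IsType n x}.ncard ≠ {x : L2 | IsType m x}.ncard →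
      Disjoint {x : L2 | IsType n x} {x : L2 | IsType m x} := fun hn hm h =>
    Set.disjoint_left.2 fun x h1 h2 => h (by rw [← orbit_eq hn h1, orbit_eq hm h2])
  have h1 := Set.ncard_union_eq (hd (n := 2) (m := 4) (by decide) (by decide) (by rw [ncard_two, ncard_four]; decide))
  have h2 := Set.ncard_union_eq (Set.disjoint_union_left.2 ⟨hd (n := 2) (m := 3) (by decide) (by decide)
    (by rw [ncard_two]; omega), hd (n := 4) (m := 3) (by decide) (by decide) (by rw [ncard_four]; omega)⟩)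
  have h4 : (0 : L2) ∉ ({x : L2 | IsType 2 x} ∪ {x : L2 | IsType 4 x}) ∪ {x : L2 | IsType 3 x} := by
    rintro ((h | h) | h)
    · exact ne_zero_of_type (.inl rfl) h rfl
    · exact ne_zero_of_type (.inr rfl) h rfl
    · rw [← orbit_eq (by decide) h, show MulAction.orbit Co1 (0 : L2) = {0} from
        Set.eq_singleton_iff_unique_mem.2 ⟨MulAction.mem_orbit_self _, fun _ ⟨g, hg⟩ => hg ▸ smul_zero g⟩,
        Set.ncard_singleton] at h3
      omega
  have h5 := Set.ncard_lt_card (Set.ne_univ_iff_exists_notMem _ |>.2 ⟨0, h4⟩)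
  rw [h2, h1, ncard_two, ncard_four, card_L2] at h5
  omega

theorem fix_co1 [Finite Co1] (T : Sylow 2 Co1) {u w : L2} (hu : ∀ t ∈ (T : Subgroup Co1), t • u = u)
    (hw : ∀ t ∈ (T : Subgroup Co1), t • w = w) : u = 0 ∨ w = 0 ∨ u = w := by
  have key : ∀ x : L2, (∀ t ∈ (T : Subgroup Co1), t • x = x) → x = 0 ∨ IsType 4 x := by
    intro x hx
    have h1 := odd_orbit T hx
    rcases type_cases x with h | h | h | h
    · exact .inl h
    · rw [orbit_eq (by decide) h, ncard_two] at h1
      exact absurd (by decide) h1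
    · rw [orbit_eq (by decide) h, ncard3] at h1
      exact absurd (by decide) h1
    · exact .inr h
  refine (key u hu).imp_right fun h1 => (key w hw).imp_right fun h2 => ?_
  obtain ⟨g, rfl⟩ : w ∈ MulAction.orbit Co1 u := by
    rw [orbit_eq (by decide) h1]
    exact h2
  exact (fix_eq H208.SelfCoOne.selfN T g hu hw).symm

end

/-- **the Monster** -/
theorem m : S.SmS Monster := by
  have := two_prime
  have := H848.MonsterSetup.finite
  have := H848.MonsterSetup.simple
  obtain ⟨Q, z, eta, pi, h⟩ := H848.MonsterSetup.exists_chart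
  have : Finite Co1 := Finite.of_surjective _ h.pi_surj
  have ho : Odd (centralizer ({z} : Set Monster)).index := by
    rw [← Nat.not_even_iff_odd]
    rintro ⟨k, hk⟩
    have h3 := (centralizer ({z} : Set Monster)).card_mul_index
    rw [H848.MonsterSetup.card, MonsterU.AmalElts.card_centralizer h, hk] at h3
    omega
  obtain ⟨S, hS⟩ := KFacts.AutLarge.exists_sylow ho
  refine Lg.sm_one (π := pi) ⟨h.large, ?_, ⟨S, hS, fun x hx y hy h1 h2 => ?_⟩, h.pi_surj, h.pi_eq_one⟩ S2085.result ?_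
  · obtain ⟨x, hx, e⟩ := h.eta_surj MonsterU.CoFrameL2.f0
    have h1 := ConwayFacts.NormL2.ne_zero_of_type (.inr rfl) ConwayFacts.NormL2.isType_f0
    exact ⟨x, hx, not_or.1 fun c => h1 (e.symm.trans ((h.eta_zero x hx).2 c))⟩
  · have key : ∀ x ∈ Q, Fx S z x → ∀ t ∈ (((S.subtype hS).mapSurjective h.pi_surj : Sylow 2 Co1) : Subgroup Co1),
        t • eta x = eta x := by
      rintro x hx h1 _ ⟨s, hs, rfl⟩
      rw [← h.eta_conj s x hx, h.eta_eq (h.large.conj_mem_cent s ⟨x, hx⟩) hx]
      exact h1 s hs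
    rw [← h.eta_zero x hx, ← h.eta_zero y hy]
    exact (fix_co1 _ (key x hx h1) (key y hy h2)).imp_right (Or.imp_right (h.eta_eq hx hy).1)
  · rw [k0_of_degList TAB.M.deg, k0_of_degList TAB.Co1.deg]
    decide +kernel

end Cfsg.Agent.MK.S8
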