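import Cfsg.Agent.MK.S8.Large
import Cfsg.Agent.MK.T.B
import Cfsg.Agent.MK.S.Defs

/-!
# MK, small rows: the McKay equality for `X` and `Aut X` from a large extraspecial subgroup (helper54)

* `Lg E z π` : the data; `Lg.m0` : `k0 X = 2 k0 L` gives `M0 X`;
* `Lg.m0_aut` : `f0 α = 2 f0 β` gives `M0 (MulAut X)`;
* `Lg.sm_one`, `Lg.sm_two` : the rows.
-/

set_option autoImplicit false

namespace Cfsg.Agent.MK.S8

open Cfsg Subgroup Cfsg.Agent.Co2Type.Quad Cfsg.Agent.KFacts.AutLarge Cfsg.Agent.MK.T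

variable {X L : Type} [Group X] [Group L] {E : Subgroup X} {z : X} {π : centralizer ({z} : Set X) →* L}

/-- a large extraspecial subgroup, a Sylow subgroup with one fixed vector, the quotient of the centralizer -/
structure Lg (E : Subgroup X) (z : X) (π : centralizer ({z} : Set X) →* L) : Prop where
  large : Large E z
  ne : ∃ x ∈ E, x ≠ 1 ∧ x ≠ z
  syl : ∃ S : Sylow 2 X, (S : Subgroup X) ≤ centralizer ({z} : Set X) ∧ Uq E S z
  surj : Function.Surjective π
  ker : ∀ x, π x = 1 ↔ (x : X) ∈ E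

/-- a `2`-subgroup `D ≤ C(z)` with at most one fixed vector is enough -/
theorem syl_of [Finite X] (ho : ¬ 2 ∣ (centralizer ({z} : Set X)).index) {D : Subgroup X} (hD : IsPGroup 2 D)
    (hz : D ≤ centralizer ({z} : Set X)) (hu : Uq E D z) :
    ∃ S : Sylow 2 X, (S : Subgroup X) ≤ centralizer ({z} : Set X) ∧ Uq E S z := by
  have := two_prime
  obtain ⟨P, hP⟩ := (hD.comap_subtype (K := centralizer ({z} : Set X))).exists_le_sylow
  have h3 : ¬ 2 ∣ ((P : Subgroup (centralizer ({z} : Set X))).map (centralizer ({z} : Set X)).subtype).index := by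
    rw [index_map_subtype]
    exact fun h => (Nat.prime_two.dvd_mul.1 h).elim P.not_dvd_index ho
  exact ⟨(P.isPGroup'.map _).toSylow h3, map_subtype_le _, hu.mono fun d hd => ⟨⟨d, hz hd⟩, hP hd, rfl⟩⟩

theorem Lg.two_lt [Finite X] (h : Lg E z π) : 2 * Nat.card L < Nat.card X := by
  have : Finite L := Finite.of_surjective _ h.surj
  have h1 := π.ker.card_mul_index
  rw [index_ker, MonoidHom.range_eq_top.2 h.surj, card_top] at h1
  obtain ⟨x, hx, h2, h3⟩ := h.ne
  have h4 : 2 < Nat.card π.ker := by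
    have := Fintype.ofFinite π.ker
    rw [Nat.card_eq_fintype_card, Fintype.two_lt_card_iff]
    have hm : ∀ y ∈ E, y ∈ centralizer ({z} : Set X) := fun y hy =>
      mem_centralizer_singleton_iff.2 (h.large.comm_z y hy)
    exact ⟨1, ⟨⟨x, hm x hx⟩, (h.ker _).2 hx⟩, ⟨⟨z, hm z h.large.z_mem⟩, (h.ker _).2 h.large.z_mem⟩,
      fun e => h2 (congrArg (fun y : π.ker => (y.1 : X)) e).symm,
      fun e => h.large.z_ne (congrArg (fun y : π.ker => (y.1 : X)) e).symm,
      fun e => h3 (congrArg (fun y : π.ker => (y.1 : X)) e)⟩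
  exact ((Nat.mul_lt_mul_right Nat.card_pos).2 h4).trans_le (h1 ▸ card_le_card_group _)

/-- **the McKay equality for `X`** -/
theorem Lg.m0 [Finite X] (h : Lg E z π) (ih : IH (Nat.card X)) (hk : k0 X = 2 * k0 L) : M0 X := by
  obtain ⟨S, hS, hu⟩ := h.syl
  exact M0.of_one S (hk.trans (cnt_ih h.large h.ne S hS hu π h.surj h.ker ih (by have := h.two_lt; omega)).symm)

theorem Lg.center_bot [IsSimpleGroup X] (h : Lg E z π) : center X = ⊥ := by
  refine ((inferInstance : (center X).Normal).eq_bot_or_eq_top).resolve_right fun e => ?_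
  obtain ⟨x, hx, h2, h3⟩ := h.ne
  exact (h.large.cent x hx fun y _ => (mem_center_iff.1 (e ▸ mem_top x) y).symm).elim h2 h3

/-- `β` is induced by `α` -/
def Ind (π : centralizer ({z} : Set X) →* L) (α : MulAut X) (β : MulAut L) : Prop :=
  α z = z ∧ ∀ x x' : centralizer ({z} : Set X), (x' : X) = α x → π x' = β (π x)

theorem map_cent {α : MulAut X} (hα : α z = z) {x : X} (hx : x ∈ centralizer ({z} : Set X)) :
    α x ∈ centralizer ({z} : Set X) := by
  rw [mem_centralizer_singleton_iff] at hx ⊢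
  rw [← hα, ← map_mul, ← map_mul, hx]

theorem Lg.exists_ind [Finite X] (h : Lg E z π) {α : MulAut X} (hα : α z = z) (hE : ∀ x ∈ E, α x ∈ E) :
    ∃ β : MulAut L, Ind π α β := by
  have : Finite L := Finite.of_surjective _ h.surj
  let f : centralizer ({z} : Set X) →* centralizer ({z} : Set X) :=
    (α.toMonoidHom.comp (centralizer ({z} : Set X)).subtype).codRestrict _ fun x => map_cent hα x.2
  have hf : Function.Surjective f :=
    Finite.surjective_of_injective fun a b hab => Subtype.ext (α.injective (congrArg Subtype.val hab))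
  let g : L →* L := π.liftOfSurjective h.surj ⟨π.comp f, fun x hx => (h.ker _).2 (hE _ ((h.ker x).1 hx))⟩
  have hg : ∀ x, g (π x) = π (f x) := fun x => π.liftOfRightInverse_comp_apply _ _ _ x
  have hg' : Function.Surjective g := by
    intro l
    obtain ⟨x, rfl⟩ := h.surj l
    obtain ⟨y, rfl⟩ := hf x
    exact ⟨π y, hg y⟩
  exact ⟨MulEquiv.ofBijective g ⟨Finite.injective_iff_surjective.2 hg', hg'⟩, hα, fun x x' e =>
    (congrArg π (Subtype.ext e)).trans (hg x).symm⟩

/-- what is needed about the automorphisms -/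
structure Au (E : Subgroup X) (z : X) : Prop where
  map : ∀ α : MulAut X, α z = z → ∀ x ∈ E, α x ∈ E
  inn : ∀ α : MulAut X, α z = z → (∀ x ∈ centralizer ({z} : Set X), x⁻¹ * α x ∈ E) →
    α ∈ (MulAut.conj : X →* MulAut X).range

theorem fix_of_comm (hZ : center X = ⊥) {g : MulAut X} {x : X} (h : g * MulAut.conj x = MulAut.conj x * g) :
    g x = x := conj_inj hZ (by rw [conj_map, h, mul_inv_cancel_right])

theorem large_aut (h : Large E z) (hZ : center X = ⊥) (ha : Au E z) :
    Large (E.map (MulAut.conj : X →* MulAut X)) (MulAut.conj z) where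
  z_mem := ⟨z, h.z_mem, rfl⟩
  z_ne e := h.z_ne (conj_inj hZ (e.trans (map_one _).symm))
  z_sq := by rw [← map_mul, h.z_sq, map_one]
  comm_z := by
    rintro _ ⟨x, hx, rfl⟩
    rw [← map_mul, ← map_mul, h.comm_z x hx]
  conj_mem := by
    rintro g hg _ ⟨x, hx, rfl⟩
    exact ⟨g x, ha.map g (fix_of_comm hZ hg) x hx, conj_map g x⟩
  sq := by
    rintro _ ⟨x, hx, rfl⟩
    rw [← map_mul]
    exact (h.sq x hx).imp (fun e => by rw [e, map_one]) fun e => by rw [e]
  comm := by
    rintro _ ⟨x, hx, rfl⟩ _ ⟨y, hy, rfl⟩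
    simp only [← map_mul]
    exact (h.comm x hx y hy).imp (congrArg _) (congrArg _)
  cent := by
    rintro _ ⟨x, hx, rfl⟩ hc
    exact (h.cent x hx fun y hy => conj_inj hZ (by rw [map_mul, map_mul]; exact hc _ ⟨y, hy, rfl⟩)).imp
      (fun e => by rw [e, map_one]) fun e => by rw [e]
  self g hg hc := by
    have h1 := fix_of_comm hZ hg
    have h2 : ∀ x ∈ E, g x = x := fun x hx => fix_of_comm hZ (hc _ ⟨x, hx, rfl⟩)
    obtain ⟨s, rfl⟩ := ha.inn g h1 fun c hc => h.self _
      (mem_centralizer_singleton_iff.1 (mul_mem (inv_mem hc) (map_cent h1 hc))) fun x hx => by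
        have h3 := h2 _ (h.conj_mem c (mem_centralizer_singleton_iff.1 hc) x hx)
        rw [map_mul, map_mul, map_inv, h2 x hx] at h3
        calc c⁻¹ * g c * x = c⁻¹ * (g c * x * (g c)⁻¹) * g c := by group
          _ = _ := by rw [h3]; group
    exact ⟨s, h.self s (mul_inv_eq_iff_eq_mul.1 h1) fun x hx => mul_inv_eq_iff_eq_mul.1 (h2 x hx), rfl⟩

theorem uq_map {Y : Type} [Group Y] {S : Subgroup X} (f : X →* Y) (hf : Function.Injective f) (hu : Uq E S z) :
    Uq (E.map f) (S.map f) (f z) := by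
  have h1 : ∀ a b, Eqz (f z) (f a) (f b) ↔ Eqz z a b := fun a b => by
    unfold Eqz
    rw [← map_mul, hf.eq_iff, hf.eq_iff]
  have h2 : ∀ x, Fx (S.map f) (f z) (f x) → Fx S z x := fun x h s hs => by
    have h3 := h _ ⟨s, hs, rfl⟩
    rwa [← map_inv, ← map_mul, ← map_mul, h1] at h3
  rintro _ ⟨x, hx, rfl⟩ _ ⟨y, hy, rfl⟩ a b
  rw [h1, hf.eq_iff, hf.eq_iff, map_eq_one_iff f hf, map_eq_one_iff f hf]
  exact hu x hx y hy (h2 x a) (h2 y b)

/-- **the McKay equality for `Aut X`** -/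
theorem Lg.m0_aut [Finite X] (h : Lg E z π) (hZ : center X = ⊥) (ha : Au E z)
    (hi : (MulAut.conj : X →* MulAut X).range.index = 2) (ih : IH (Nat.card X))
    (hf : ∀ (α : MulAut X) (β : MulAut L), α ∉ (MulAut.conj : X →* MulAut X).range →
      β ∉ (MulAut.conj : L →* MulAut L).range → Ind π α β → f0 α = 2 * f0 β) : M0 (MulAut X) := by
  have := two_prime
  have : Finite L := Finite.of_surjective _ h.surj
  have hj := conj_inj hZ
  have hL := large_aut h.large hZ ha
  obtain ⟨S, hS, hu⟩ := h.syl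
  have hE := le_sylow h.large S hS
  obtain ⟨P, hP⟩ := (S.isPGroup'.map (MulAut.conj : X →* MulAut X)).exists_le_sylow
  have h1 : (P : Subgroup (MulAut X)).comap MulAut.conj = S :=
    S.is_maximal' (P.isPGroup'.comap_of_injective _ hj) (map_le_iff_le_comap.1 hP)
  have h2 : ∀ g ∈ (P : Subgroup (MulAut X)), g z = z := by
    intro g hg
    have h3 : ∀ g ∈ (P : Subgroup (MulAut X)), ∀ s ∈ (S : Subgroup X), g s ∈ (S : Subgroup X) := fun g hg s hs => by
      rw [← h1, mem_comap, conj_map]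
      exact mul_mem (mul_mem hg (hP ⟨s, hs, rfl⟩)) (inv_mem hg)
    have h4 : ∀ s ∈ (S : Subgroup X), g z * s = s * g z := fun s hs => by
      rw [← MulAut.apply_inv_self X g s, ← map_mul, ← map_mul, mem_centralizer_singleton_iff.1 (hS (h3 _ (inv_mem hg) s hs))]
    exact (h.large.cent _ (h.large.self _ (h4 z (hE h.large.z_mem)) fun x hx => h4 x (hE hx))
      fun x hx => h4 x (hE hx)).resolve_left fun e => h.large.z_ne ((map_eq_one_iff g g.injective).1 e)
  have h3 : ∀ g : MulAut X, g z = z → g ∈ centralizer ({MulAut.conj z} : Set (MulAut X)) := fun g hg => by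
    rw [mem_centralizer_singleton_iff, ← mul_inv_eq_iff_eq_mul, ← conj_map, hg]
  obtain ⟨α, hα, hn⟩ : ∃ α ∈ (P : Subgroup (MulAut X)), α ∉ (MulAut.conj : X →* MulAut X).range := by
    by_contra hc
    push Not at hc
    have h4 := index_dvd_of_le (show (P : Subgroup (MulAut X)) ≤ (MulAut.conj : X →* MulAut X).range from hc)
    rw [hi] at h4
    exact P.not_dvd_index h4
  obtain ⟨β, hβ⟩ := h.exists_ind (h2 α hα) (ha.map α (h2 α hα))
  let C := centralizer ({MulAut.conj z} : Set (MulAut X))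
  let K : Subgroup C := (E.map (MulAut.conj : X →* MulAut X)).subgroupOf C
  have : K.Normal := ⟨fun x hx g => hL.conj_mem g (mem_centralizer_singleton_iff.1 g.2) x hx⟩
  let j : centralizer ({z} : Set X) →* C := (MulAut.conj.comp (centralizer ({z} : Set X)).subtype).codRestrict _
    fun x => h3 _ (mul_inv_eq_iff_eq_mul.2 (mem_centralizer_singleton_iff.1 x.2))
  let f : L →* C ⧸ K := π.liftOfSurjective h.surj ⟨(QuotientGroup.mk' K).comp j, fun x hx =>
    (QuotientGroup.eq_one_iff _).2 ⟨x, (h.ker x).1 hx, rfl⟩⟩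
  have hf1 : ∀ x, f (π x) = QuotientGroup.mk' K (j x) := fun x => π.liftOfRightInverse_comp_apply _ _ _ x
  have hf2 : Function.Injective f := (injective_iff_map_eq_one f).2 fun l hl => by
    obtain ⟨x, rfl⟩ := h.surj l
    obtain ⟨y, hy, e⟩ := (QuotientGroup.eq_one_iff _).1 ((hf1 x).symm.trans hl)
    exact (h.ker x).2 ((hj e : y = x) ▸ hy)
  have hf3 : ∀ c : C, QuotientGroup.mk' K c ∈ f.range ↔ (c : MulAut X) ∈ (MulAut.conj : X →* MulAut X).range := by
    intro c
    constructor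
    · rintro ⟨l, hl⟩
      obtain ⟨x, rfl⟩ := h.surj l
      obtain ⟨y, -, e⟩ := QuotientGroup.eq.1 ((hf1 x).symm.trans hl)
      exact ⟨x * y, by rw [map_mul, e]; exact mul_inv_cancel_left _ _⟩
    · rintro ⟨x, hx⟩
      have h4 := fix_of_comm hZ (mem_centralizer_singleton_iff.1 c.2)
      rw [← hx] at h4
      exact ⟨π ⟨x, mem_centralizer_singleton_iff.2 (mul_inv_eq_iff_eq_mul.1 h4)⟩,
        (hf1 _).trans (congrArg _ (Subtype.ext hx))⟩
  have hf4 : f.range.index = 2 := by
    refine index_eq_two_iff.2 ⟨QuotientGroup.mk' K ⟨α, h3 α (h2 α hα)⟩, fun b => ?_⟩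
    obtain ⟨c, rfl⟩ := QuotientGroup.mk'_surjective K b
    rw [← map_mul, hf3, hf3, coe_mul, mul_mem_iff_of_index_two hi]
    simp only [hn, iff_false]
    exact (em _).elim (fun c => .inr ⟨c, not_not_intro c⟩) fun c => .inl ⟨c, c⟩
  have h4 : k0 (C ⧸ K) = 2 * f0 β := k0_index_two f hf2 hf4 (a := QuotientGroup.mk' K ⟨α, h3 α (h2 α hα)⟩)
    (fun e => hn ((hf3 _).1 e)) fun l => by
      obtain ⟨x, rfl⟩ := h.surj l
      rw [← hβ.2 x ⟨α x, map_cent hβ.1 x.2⟩ rfl, hf1, hf1, ← map_inv, ← map_mul, ← map_mul]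
      exact congrArg _ (Subtype.ext (conj_map α x))
  have h5 : β ∉ (MulAut.conj : L →* MulAut L).range := by
    rintro ⟨l, rfl⟩
    obtain ⟨c, rfl⟩ := h.surj l
    refine hn ((Subgroup.mul_mem_cancel_left _ (inv_mem (MonoidHom.mem_range.2 ⟨(c : X), rfl⟩))).1 (ha.inn _ ?_ fun x hx => ?_))
    · rw [MulAut.mul_apply, hβ.1, ← map_inv, MulAut.conj_apply, mem_centralizer_singleton_iff.1 (inv_mem c.2),
        mul_inv_cancel_right]
    · have h6 := (h.ker (⟨x, hx⟩⁻¹ * (c⁻¹ * ⟨α x, map_cent hβ.1 hx⟩ * c))).1 (by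
        rw [map_mul, map_mul, map_mul, map_inv, map_inv, hβ.2 ⟨x, hx⟩ ⟨α x, map_cent hβ.1 hx⟩ rfl, MulAut.conj_apply]
        group)
      simpa using h6
  have h6 : Nat.card (C ⧸ K) < Nat.card X := by
    rw [← f.range.card_mul_index, hf4, ← Nat.card_congr (MonoidHom.ofInjective hf2).toEquiv, mul_comm]
    exact h.two_lt
  obtain ⟨x, hx, hx1, hx2⟩ := h.ne
  refine M0.of_one P ?_
  rw [k0_aut hZ hi hn, hf α β hn h5 hβ, ← h4]
  exact (cnt_ih hL ⟨_, ⟨x, hx, rfl⟩, fun e => hx1 (hj (e.trans (map_one _).symm)), fun e => hx2 (hj e)⟩ P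
    (fun g hg => h3 g (h2 g hg)) ((uq_map _ hj hu).mono hP) (QuotientGroup.mk' K) (QuotientGroup.mk'_surjective K)
    (fun x => QuotientGroup.eq_one_iff x) ih h6).symm

/-- **the row, trivial outer automorphism group** -/
theorem Lg.sm_one [Finite X] [IsSimpleGroup X] (h : Lg E z π)
    (hi : (MulAut.conj : X →* MulAut X).range.index = 1) (hk : k0 X = 2 * k0 L) : S.SmS X :=
  fun ih => sm_of_one h.center_bot hi (h.m0 ih hk)

/-- **the row, outer automorphism group of order at most two** -/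
theorem Lg.sm_two [Finite X] [IsSimpleGroup X] (h : Lg E z π) (ha : Au E z)
    (hi : (MulAut.conj : X →* MulAut X).range.index = 1 ∨ (MulAut.conj : X →* MulAut X).range.index = 2)
    (hk : k0 X = 2 * k0 L)
    (hf : ∀ (α : MulAut X) (β : MulAut L), α ∉ (MulAut.conj : X →* MulAut X).range →
      β ∉ (MulAut.conj : L →* MulAut L).range → Ind π α β → f0 α = 2 * f0 β) : S.SmS X := fun ih =>
  hi.elim (fun hi => h.sm_one hi hk ih) fun hi =>
    sm_of_two h.center_bot hi ih (h.m0 ih hk) (h.m0_aut h.center_bot ha hi ih hf)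

end Cfsg.Agent.MK.S8
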