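import Cfsg.Agent.MK.S8.Aut
import Cfsg.Agent.MK.S5.Gen

/-!
# MK, small rows: fixed vectors from bit matrices (helper54)

* `Crd n c` : coordinates `c : ℕ → V`; `lin I n m` : the image of `m` under the matrix with the rows `I k`;
* `uq_of_bits` : a certificate for `Uq`; `two_of_bits` : commuting involutions modulo `E`.
-/

set_option autoImplicit false

namespace Cfsg.Agent.MK.S8

open Cfsg Subgroup Cfsg.Agent.Co2Type.Quad

/-- the image of `m` -/
def lin (I : ℕ → ℕ) (m n : ℕ) : ℕ := Nat.rec 0 (fun k a => (bif m.testBit k then I k else 0) ^^^ a) n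

theorem lin_succ (I : ℕ → ℕ) (m n : ℕ) : lin I m (n + 1) = (bif m.testBit n then I n else 0) ^^^ lin I m n := rfl

theorem lin_two (m n : ℕ) : lin (2 ^ ·) m n = m % 2 ^ n := by
  induction n with
  | zero => exact (Nat.mod_one m).symm
  | succ n ih =>
    rw [lin_succ, ih]
    refine Nat.eq_of_testBit_eq fun j => ?_
    rw [Nat.testBit_xor, Nat.testBit_mod_two_pow, Nat.testBit_mod_two_pow]
    rcases lt_trichotomy j n with h | rfl | h
    · cases m.testBit n <;> simp [h, h.trans (Nat.lt_succ_self n), Nat.testBit_two_pow_of_ne h.ne']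
    · cases m.testBit j <;> simp
    · cases m.testBit n <;> simp [h.not_gt, h.not_ge, Nat.testBit_two_pow_of_ne h.ne]

/-- coordinates -/
structure Crd {V : Type} [AddCommGroup V] (n : ℕ) (c : ℕ → V) : Prop where
  xor : ∀ x y, c (x ^^^ y) = c x + c y
  mod : ∀ x, c (x % 2 ^ n) = c x
  surj : Function.Surjective c

section

variable {V W : Type} [AddCommGroup V] [AddCommGroup W] {n : ℕ} {c : ℕ → V}

theorem Crd.zero (h : Crd n c) : c 0 = 0 := by simpa using h.xor 0 0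

theorem Crd.ext (h : Crd n c) {f g : V →+ W} (hf : ∀ k < n, f (c (2 ^ k)) = g (c (2 ^ k))) (v : V) : f v = g v := by
  obtain ⟨m, rfl⟩ := h.surj v
  rw [← h.mod, ← lin_two]
  suffices ∀ j ≤ n, f (c (lin (2 ^ ·) m j)) = g (c (lin (2 ^ ·) m j)) from this n le_rfl
  intro j hj
  induction j with
  | zero => rw [show lin (2 ^ ·) m 0 = 0 from rfl, h.zero, map_zero, map_zero]
  | succ j ih =>
    rw [lin_succ, h.xor, map_add, map_add, ih (Nat.le_of_succ_le hj)]
    cases m.testBit j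
    · rw [cond_false, h.zero, map_zero, map_zero]
    · rw [cond_true, hf j hj]

theorem Crd.app (h : Crd n c) {f : V →+ V} {I : ℕ → ℕ} (hf : ∀ k < n, f (c (2 ^ k)) = c (I k)) (m : ℕ) :
    f (c m) = c (lin I m n) := by
  rw [← h.mod, ← lin_two]
  suffices ∀ j ≤ n, f (c (lin (2 ^ ·) m j)) = c (lin I m j) from this n le_rfl
  intro j hj
  induction j with
  | zero => rw [show lin (2 ^ ·) m 0 = 0 from rfl, show lin I m 0 = 0 from rfl, h.zero, map_zero]
  | succ j ih =>
    rw [lin_succ, lin_succ, h.xor, h.xor, map_add, ih (Nat.le_of_succ_le hj)]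
    cases m.testBit j
    · rw [cond_false, cond_false, h.zero, map_zero]
    · rw [cond_true, cond_true, hf j hj]

end

variable {G : Type} [Group G] {E S : Subgroup G} {z : G} {n r : ℕ} {I : ℕ → ℕ → ℕ}

/-- the sum of the commutators in the list -/
def cs (I : ℕ → ℕ → ℕ) (l : List (ℕ × ℕ)) : ℕ := l.foldr (fun p a => (I p.1 p.2 ^^^ 2 ^ p.2) ^^^ a) 0

theorem uq_of_bits (h : Large E z) (hS : S ≤ centralizer ({z} : Set G)) {c : ℕ → h.V} (hc : Crd n c)
    {g : ℕ → centralizer ({z} : Set G)} (hg : ∀ i < r, (g i : G) ∈ S)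
    (hI : ∀ i < r, ∀ k < n, h.act (g i) (c (2 ^ k)) = c (I i k)) (j₀ : ℕ) (cert : List (List (ℕ × ℕ)))
    (chk : ∀ j < n, j ≠ j₀ → cs I (cert.getD j []) % 2 ^ n = 2 ^ j ∧ ∀ p ∈ cert.getD j [], p.1 < r ∧ p.2 < n) :
    Uq E S z := by
  have h01 : ∀ a : ZMod 2, a + a = 0 := by decide
  have key : ∀ u, (∀ s : centralizer ({z} : Set G), (s : G) ∈ S → h.act s u = u) →
      ∀ j < n, j ≠ j₀ → h.b u (c (2 ^ j)) = 0 := by
    intro u hu j hj hj'
    obtain ⟨h1, h2⟩ := chk j hj hj'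
    rw [← h1, hc.mod]
    generalize cert.getD j [] = l at h2
    induction l with
    | nil => rw [show cs I [] = 0 from rfl, hc.zero, map_zero]
    | cons p l ih =>
      obtain ⟨h3, h4⟩ := h2 p List.mem_cons_self
      rw [show cs I (p :: l) = (I p.1 p.2 ^^^ 2 ^ p.2) ^^^ cs I l from rfl, hc.xor, hc.xor, map_add, map_add,
        ih fun q hq => h2 q (List.mem_cons_of_mem _ hq), ← hI _ h3 _ h4, add_zero]
      nth_rw 1 [← hu _ (hg _ h3)]
      rw [h.b_act, h01]
  have zero : ∀ u, (∀ j < n, h.b u (c (2 ^ j)) = 0) → u = 0 := fun u hu =>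
    h.b_nondeg (hc.ext (f := (h.b u).toAddMonoidHom) (g := 0) hu)
  refine uq_of_act h hS fun u w hu hw => ?_
  have h02 : ∀ a b : ZMod 2, a = 0 ∨ b = 0 ∨ a - b = 0 := by decide
  refine (h02 (h.b u (c (2 ^ j₀))) (h.b w (c (2 ^ j₀)))).imp (fun e => zero u fun j hj => ?_) (Or.imp
    (fun e => zero w fun j hj => ?_) fun e => sub_eq_zero.1 (zero _ fun j hj => ?_))
  · exact (em (j = j₀)).elim (· ▸ e) (key u hu j hj)
  · exact (em (j = j₀)).elim (· ▸ e) (key w hw j hj)
  · rw [map_sub, LinearMap.sub_apply]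
    exact (em (j = j₀)).elim (· ▸ e) fun e => by rw [key u hu j hj e, key w hw j hj e, sub_zero]

theorem two_of_bits [Finite G] (h : Large E z) {c : ℕ → h.V} (hc : Crd n c) {g : ℕ → centralizer ({z} : Set G)}
    (hI : ∀ i < r, ∀ k < n, h.act (g i) (c (2 ^ k)) = c (I i k))
    (chk : ∀ i < r, ∀ k < n, lin (I i) (I i k) n % 2 ^ n = 2 ^ k ∧
      ∀ j < r, lin (I i) (I j k) n % 2 ^ n = lin (I j) (I i k) n % 2 ^ n) :
    ∃ D : Subgroup G, IsPGroup 2 D ∧ D ≤ centralizer ({z} : Set G) ∧ ∀ i < r, (g i : G) ∈ D := by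
  have h1 : ∀ i < r, ∀ m, h.act (g i) (c m) = c (lin (I i) m n) := fun i hi =>
    hc.app (f := (h.act (g i)).toLinearMap.toAddMonoidHom) (hI i hi)
  have h2 := S5.isPGroup_closure (s := {a | ∃ i < r, a = h.act (g i)}) (by
    rintro _ ⟨i, hi, rfl⟩
    refine LinearEquiv.ext (hc.ext (f := (h.act (g i) * h.act (g i)).toLinearMap.toAddMonoidHom)
      (g := AddMonoidHom.id _) fun k hk => ?_)
    show h.act (g i) (h.act (g i) _) = c _
    rw [hI i hi k hk, h1 i hi, ← hc.mod, (chk i hi k hk).1]) (by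
    rintro _ ⟨i, hi, rfl⟩ _ ⟨j, hj, rfl⟩
    refine LinearEquiv.ext (hc.ext (f := (h.act (g i) * h.act (g j)).toLinearMap.toAddMonoidHom)
      (g := (h.act (g j) * h.act (g i)).toLinearMap.toAddMonoidHom) fun k hk => ?_)
    show h.act (g i) (h.act (g j) _) = h.act (g j) (h.act (g i) _)
    rw [hI i hi k hk, hI j hj k hk, h1 i hi, h1 j hj, ← hc.mod, (chk i hi k hk).2 j hj, hc.mod])
  have h3 : IsPGroup 2 h.act.ker := fun x => by
    obtain ⟨k, hk⟩ := LargeExtra.Base.isPGroup h ⟨x, h.mem_of_act x x.2⟩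
    exact ⟨k, Subtype.ext (Subtype.ext (congrArg Subtype.val hk :))⟩
  exact ⟨_, (h2.comap_of_ker_isPGroup _ h3).map (centralizer ({z} : Set G)).subtype, map_subtype_le _,
    fun i hi => ⟨g i, subset_closure ⟨i, hi, rfl⟩, rfl⟩⟩

end Cfsg.Agent.MK.S8
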