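import Cfsg.Agent.MK.S8.Aut
import Cfsg.Agent.GAL.Spor.Loc

/-!
# MK, small rows: `Au` from a sheet (helper54)
-/

set_option autoImplicit false

namespace Cfsg.Agent.MK.S8

open Cfsg Subgroup

variable {X : Type} [Group X] {E : Subgroup X} {z : X}

open Cfsg.Agent.OddHalf.D8.JTwo.Sheet in
theorem au_of_sheet [Finite X] {P : Subgroup X} (h : SheetX z P E)
    (hi : (MulAut.conj : X →* MulAut X).range.index = 1 ∨ (MulAut.conj : X →* MulAut X).range.index = 2) :
    Au E z where
  map α hα _ hx := OddHalf.CaseM.X.map_R h α hα hx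
  inn α hα ht := GAL.Spor.inner_iff_mem.1 (GAL.Spor.inner_of_triv h hα (k := 1) (GAL.Spor.inner_iff_mem.2 (by
      rcases hi with hi | hi
      · exact index_eq_one.1 hi ▸ mem_top _
      · exact sq_mem_of_index_two hi α))
    fun x hx => ht x (mem_centralizer_singleton_iff.2 (h.cen x hx)))

end Cfsg.Agent.MK.S8
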